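import Groth.Agent.GRingCpl.GRingEss
import Groth.Agent.GRingCpl.Dedekind
import Groth.Agent.GRingCpl.HenselG
import Groth.Agent.FlatDepth.Formal
import Groth.Agent.FlatDepth.RegHom
import Groth.Agent.AnLib.Basic

/-!
Completions of local rings of schemes of finite type over `ℂ`.
-/

set_option autoImplicit false

universe u

open IsLocalRing AlgebraicGeometry CategoryTheory
open scoped Groth.Agent.AnLib

namespace Groth.Agent.AnGerm

/-- Reduced completion. -/
theorem isReduced_cpl {R : Type u} [CommRing R] [IsLocalRing R] [IsNoetherianRing R] [IsReduced R]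
    (h : CAlg.IsRegularHom R (EGA4.Cpl R)) : IsReduced (EGA4.Cpl R) :=
  (FlatDepth.isReduced_cpl_iff R fun p _ =>
    FlatDepth.geomReduced_of_geomNormal (FlatDepth.geomNormal_of_geomRegular (h.2 p).2)).mp inferInstance

/-- A sequence which is Cauchy and whose `e`th powers tend to zero tends to zero, when the completion is reduced. -/
theorem mem_pow_of_cauchy {R : Type u} [CommRing R] [IsLocalRing R] [IsNoetherianRing R]
    [IsReduced (EGA4.Cpl R)] (π : ℕ → R) (hπ : ∀ i j, i ≤ j → π j - π i ∈ maximalIdeal R ^ i) (D e : ℕ)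
    (hpow : ∀ M, π ((D + 1) * M) ^ e ∈ maximalIdeal R ^ M) (k : ℕ) : π k ∈ maximalIdeal R ^ k := by
  let c : AdicCompletion.AdicCauchySequence (maximalIdeal R) R := AdicCompletion.AdicCauchySequence.mk _ _ π
    fun m => by
      rw [SModEq.sub_mem, smul_eq_mul, Ideal.mul_top, ← neg_sub]
      exact neg_mem (hπ m (m + 1) (Nat.le_succ m))
  let g : EGA4.Cpl R := AdicCompletion.mk (maximalIdeal R) R c
  have hev : ∀ n, AdicCompletion.evalₐ (maximalIdeal R) n g = Ideal.Quotient.mk _ (π n) := fun n => by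
    simp [g, c, AdicCompletion.evalₐ_mk]
  have hg : g ^ e = 0 := by
    refine AdicCompletion.ext_evalₐ fun n => ?_
    rw [map_pow, hev, map_zero, ← map_pow, Ideal.Quotient.eq_zero_iff_mem]
    have h1 : π n - π ((D + 1) * n) ∈ maximalIdeal R ^ n := by
      rw [← neg_sub]; exact neg_mem (hπ n _ (Nat.le_mul_of_pos_left n D.succ_pos))
    obtain ⟨t, ht⟩ := sub_dvd_pow_sub_pow (π n) (π ((D + 1) * n)) e
    rw [← sub_add_cancel (π n ^ e) (π ((D + 1) * n) ^ e), ht]
    exact add_mem (Ideal.mul_mem_right _ _ h1) (hpow n)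
  have hg0 : g = 0 := IsReduced.eq_zero g ⟨e, hg⟩
  have := hev k
  rw [hg0, map_zero] at this
  exact Ideal.Quotient.eq_zero_iff_mem.mp this.symm

variable {X : Scheme.{0}} [X.Over An.SC] [LocallyOfFiniteType (X ↘ An.SC)]

/-- The completion map of a local ring of a scheme of finite type over `ℂ` is regular. -/
theorem isRegularHom_stalk_cpl (x : X) :
    CAlg.IsRegularHom (X.presheaf.stalk x) (EGA4.Cpl (X.presheaf.stalk x)) := by
  obtain ⟨U, hU, hx, -⟩ := exists_isAffineOpen_mem_and_subset (x := x) (U := ⊤) trivial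
  have := AnLib.finiteType_sec (X := X) hU
  let _ := TopCat.Presheaf.algebra_section_stalk X.presheaf (⟨x, hx⟩ : U)
  have hloc := hU.isLocalization_stalk ⟨x, hx⟩
  let _ : Algebra ℂ (X.presheaf.stalk x) :=
    ((algebraMap Γ(X, U) (X.presheaf.stalk x)).comp (algebraMap ℂ Γ(X, U))).toAlgebra
  have : IsScalarTower ℂ Γ(X, U) (X.presheaf.stalk x) := .of_algebraMap_eq fun _ => rfl
  have : Algebra.EssFiniteType Γ(X, U) (X.presheaf.stalk x) :=
    Algebra.EssFiniteType.of_isLocalization (X.presheaf.stalk x)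
      (hU.primeIdealOf ⟨x, hx⟩).asIdeal.primeCompl
  have : Algebra.EssFiniteType ℂ (X.presheaf.stalk x) :=
    Algebra.EssFiniteType.comp ℂ Γ(X, U) (X.presheaf.stalk x)
  exact GRingCpl.isRegularHom_cpl_of_isGRing _
    (GRingCpl.isGRing_essFiniteType ℂ _ (GRingCpl.isGRing_of_isDedekindDomain_charZero ℂ))

theorem isNoetherianRing_stalk (x : X) : IsNoetherianRing (X.presheaf.stalk x) := by
  have : IsLocallyNoetherian An.SC := inferInstance
  have := LocallyOfFiniteType.isLocallyNoetherian (X ↘ An.SC)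
  infer_instance

end Groth.Agent.AnGerm
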