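import Mathlib.RingTheory.MvPolynomial.Ideal
import Mathlib.RingTheory.MvPolynomial.Homogeneous
import Mathlib.Analysis.Asymptotics.Lemmas
import Mathlib.Analysis.Complex.Basic
import Mathlib.Algebra.Polynomial.Inductions
import Mathlib.Topology.Algebra.Polynomial
import Mathlib.Algebra.MvPolynomial.Funext

/-!
A polynomial which is `O(‖z‖ ^ M)` at the origin lies in the `M`th power of the irrelevant ideal.
-/

set_option autoImplicit false

open Filter Topology Asymptotics Polynomial

namespace Groth.Agent.AnGerm

noncomputable section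

lemma coeff_eq_zero_of_isBigO : ∀ (M : ℕ) (Q : ℂ[X]),
    (fun t => Q.eval t) =O[𝓝[≠] (0 : ℂ)] (fun t => t ^ M) → ∀ j < M, Q.coeff j = 0 := by
  intro M
  induction M with
  | zero => intro Q _ j hj; omega
  | succ M ih =>
    intro Q hQ j hj
    have hM : Tendsto (fun t : ℂ => t ^ (M + 1)) (𝓝[≠] 0) (𝓝 0) := by
      have := ((continuous_pow (M + 1)).tendsto (0 : ℂ)).mono_left (nhdsWithin_le_nhds (s := {0}ᶜ))
      simpa using this
    have h0 : Q.eval 0 = 0 := tendsto_nhds_unique
      ((Q.continuous.tendsto 0).mono_left nhdsWithin_le_nhds) (hQ.trans_tendsto hM)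
    rw [← Polynomial.coeff_zero_eq_eval_zero] at h0
    rcases j with _ | j
    · exact h0
    rw [← Polynomial.coeff_divX]
    refine ih Q.divX ?_ j (by omega)
    have hne : ∀ᶠ t in 𝓝[≠] (0 : ℂ), t ≠ 0 := self_mem_nhdsWithin
    refine ((hQ.mul (isBigO_refl (fun t : ℂ => t⁻¹) _)).congr' ?_ ?_)
    · filter_upwards [hne] with t ht
      have := congr(Polynomial.eval t $(Polynomial.X_mul_divX_add Q))
      simp only [Polynomial.eval_add, Polynomial.eval_mul, Polynomial.eval_X, Polynomial.eval_C, h0,
        add_zero] at this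
      rw [← this]; field_simp
    · filter_upwards [hne] with t ht
      rw [pow_succ]; field_simp

theorem mem_pow_idealOfVars_of_isBigO {σ : Type*} [Fintype σ] {p : MvPolynomial σ ℂ} {M : ℕ}
    (h : (fun z : σ → ℂ => MvPolynomial.eval z p) =O[𝓝 0] fun z => ‖z‖ ^ M) :
    p ∈ MvPolynomial.idealOfVars σ ℂ ^ M := by
  have hcomp : ∀ j < M, MvPolynomial.homogeneousComponent j p = 0 := by
    intro j hj
    refine MvPolynomial.funext fun v => ?_
    rw [map_zero]
    by_cases hjd : j ∈ Finset.range (p.totalDegree + 1)
    swap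
    · rw [MvPolynomial.homogeneousComponent_eq_zero _ _ (by simpa using hjd), map_zero]
    let Q : ℂ[X] := ∑ i ∈ Finset.range (p.totalDegree + 1),
      Polynomial.C (MvPolynomial.eval v (MvPolynomial.homogeneousComponent i p)) * Polynomial.X ^ i
    have hQ : ∀ t : ℂ, Q.eval t = MvPolynomial.eval (t • v) p := by
      intro t
      conv_rhs => rw [← MvPolynomial.sum_homogeneousComponent (φ := p)]
      simp only [Q, Polynomial.eval_finsetSum, Polynomial.eval_mul, Polynomial.eval_C,
        Polynomial.eval_pow, Polynomial.eval_X, map_sum]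
      refine Finset.sum_congr rfl fun i _ => ?_
      have hi := MvPolynomial.homogeneousComponent_isHomogeneous (n := i) (φ := p)
      generalize MvPolynomial.homogeneousComponent i p = q at hi ⊢
      rw [MvPolynomial.eval_eq', MvPolynomial.eval_eq', Finset.sum_mul]
      refine Finset.sum_congr rfl fun d hd => ?_
      have hdeg : ∑ k, d k = i := by
        have := hi (MvPolynomial.mem_support_iff.mp hd)
        rw [← this]
        simp [Finsupp.weight_apply, Finsupp.sum_fintype]
      simp only [Pi.smul_apply, smul_eq_mul, mul_pow, Finset.prod_mul_distrib,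
        Finset.prod_pow_eq_pow_sum, hdeg]
      ring
    have hO : (fun t => Q.eval t) =O[𝓝[≠] (0 : ℂ)] fun t => t ^ M := by
      have hc : Tendsto (fun t : ℂ => t • v) (𝓝[≠] 0) (𝓝 0) := by
        have := ((continuous_id.smul continuous_const).tendsto (0 : ℂ)).mono_left
          (nhdsWithin_le_nhds (s := {0}ᶜ)) (f := fun t : ℂ => t • v)
        simpa using this
      refine IsBigO.congr_left ?_ (fun t => (hQ t).symm)
      refine (h.comp_tendsto hc).trans ?_
      refine IsBigO.of_bound (‖v‖ ^ M) (Eventually.of_forall fun t => ?_)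
      simp [norm_smul, mul_pow, mul_comm]
    have := coeff_eq_zero_of_isBigO M Q hO j hj
    simpa [Q, Finset.sum_ite_eq, Polynomial.coeff_X_pow, hjd] using this
  rw [MvPolynomial.mem_pow_idealOfVars_iff']
  intro x hx
  have := congr(MvPolynomial.coeff x $(hcomp x.degree hx))
  rwa [MvPolynomial.coeff_homogeneousComponent, if_pos rfl, MvPolynomial.coeff_zero] at this

end

end Groth.Agent.AnGerm
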