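import Groth.Agent.AnLib.Finite
import Groth.Agent.AnGerm.Order
import Mathlib.LinearAlgebra.Matrix.Charpoly.LinearMap
import Mathlib.Analysis.Calculus.FDeriv.Add
import Mathlib.Analysis.Calculus.FDeriv.Mul

/-!
Order of contact: if an element of a reduced affine algebra is `O(dist ^ (D * M))` near a point,
then, up to a unit at the point, its `e`th power lies in the `M`th power of the maximal ideal.
-/

set_option autoImplicit false

open Filter Topology Asymptotics Groth.Agent.AnLib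

namespace Groth.Agent.AnGerm

noncomputable section

variable {A : Type} [CommRing A] [Algebra ℂ A] {n : ℕ}

/-- Coordinates of a point relative to `φ₀`. -/
abbrev rel (s : Fin n → A) (φ₀ ψ : A →ₐ[ℂ] ℂ) : Fin n → ℂ := fun i => ψ (s i) - φ₀ (s i)

lemma tendsto_rel (s : Fin n → A) (φ₀ : A →ₐ[ℂ] ℂ) : Tendsto (rel s φ₀) (𝓝 φ₀) (𝓝 0) := by
  have hc : Continuous (rel s φ₀) := continuous_pi fun i => (continuous_eval (s i)).sub continuous_const
  have := hc.tendsto φ₀
  have e : rel s φ₀ φ₀ = 0 := funext fun i => sub_self _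
  rwa [e] at this

/-- An element vanishing at a point is `O` of the distance to that point. -/
lemma isBigO_rel {s : Fin n → A} (hs : Function.Surjective (MvPolynomial.aeval (R := ℂ) s))
    (φ₀ : A →ₐ[ℂ] ℂ) (u : A) :
    (fun ψ : A →ₐ[ℂ] ℂ => ψ u - φ₀ u) =O[𝓝 φ₀] fun ψ => ‖rel s φ₀ ψ‖ := by
  obtain ⟨p, rfl⟩ := hs u
  simp only [apply_aeval]
  have hd : DifferentiableAt ℂ (fun z : Fin n → ℂ => MvPolynomial.eval z p) (fun i => φ₀ (s i)) := by
    induction p using MvPolynomial.induction_on with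
    | C c => simp only [MvPolynomial.eval_C]; exact differentiableAt_const _
    | add p q hp hq => simp only [map_add]; exact hp.add hq
    | mul_X p j hp => simp only [map_mul, MvPolynomial.eval_X]; exact hp.mul (differentiableAt_apply (𝕜 := ℂ) j _)
  refine IsBigO.norm_right ?_
  exact hd.hasFDerivAt.isBigO_sub.comp_tendsto (k := fun ψ : A →ₐ[ℂ] ℂ => fun i => ψ (s i))
    ((continuous_pi fun i => continuous_eval (s i)).tendsto φ₀)

/-- A finite injective map to affine space sending a given point to the origin. -/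
lemma exists_normalization [IsDomain A] [Algebra.FiniteType ℂ A] (φ₀ : A →ₐ[ℂ] ℂ) :
    ∃ (r : ℕ) (g : MvPolynomial (Fin r) ℂ →ₐ[ℂ] A),
      Function.Injective g ∧ g.Finite ∧ proj g φ₀ = 0 := by
  obtain ⟨r, g, hg, hfin⟩ := exists_finite_inj_algHom_of_fg ℂ A
  let c := proj g φ₀
  let τ : MvPolynomial (Fin r) ℂ →ₐ[ℂ] MvPolynomial (Fin r) ℂ :=
    MvPolynomial.aeval fun i => MvPolynomial.X i - MvPolynomial.C (c i)
  let τ' : MvPolynomial (Fin r) ℂ →ₐ[ℂ] MvPolynomial (Fin r) ℂ :=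
    MvPolynomial.aeval fun i => MvPolynomial.X i + MvPolynomial.C (c i)
  have h1 : τ.comp τ' = AlgHom.id ℂ _ := MvPolynomial.algHom_ext fun i => by simp [τ, τ']
  have h2 : τ'.comp τ = AlgHom.id ℂ _ := MvPolynomial.algHom_ext fun i => by simp [τ, τ']
  refine ⟨r, g.comp τ, ?_, hfin.comp (AlgHom.Finite.of_surjective τ fun x => ⟨τ' x, congr($h1 x)⟩),
    funext fun i => ?_⟩
  · exact hg.comp fun x y h => by
      have := congrArg τ' (show τ x = τ y from h)
      rwa [show τ' (τ x) = x from congr($h2 x), show τ' (τ y) = y from congr($h2 y)] at this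
  · change φ₀ (g (τ (MvPolynomial.X i))) = 0
    simp [τ, c, proj]

theorem key_domain [IsDomain A] [Algebra.FiniteType ℂ A] (s : Fin n → A)
    (hs : Function.Surjective (MvPolynomial.aeval (R := ℂ) s)) (φ₀ : A →ₐ[ℂ] ℂ) :
    ∃ D e : ℕ, ∀ (M : ℕ) (P : A), (fun ψ : A →ₐ[ℂ] ℂ => ψ P) =O[𝓝 φ₀] (fun ψ => ‖rel s φ₀ ψ‖ ^ (D * M)) →
      ∃ u : A, φ₀ u ≠ 0 ∧ (u * P) ^ e ∈ RingHom.ker φ₀ ^ M := by
  classical
  obtain ⟨r, g, hinj, hfin, hg0⟩ := exists_normalization φ₀
  have hint : g.toRingHom.IsIntegral := RingHom.Finite.to_isIntegral hfin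
  choose mp hmp hroot using fun i => hint (s i)
  let D : ℕ := (Finset.univ.sup fun i => (mp i).natDegree + 1) + 1
  algebraize [g.toRingHom]
  have : IsScalarTower ℂ (MvPolynomial (Fin r) ℂ) A := .of_algebraMap_eq fun c => (g.commutes c).symm
  have : Module.IsTorsionFree (MvPolynomial (Fin r) ℂ) A :=
    Module.isTorsionFree_iff_algebraMap_injective.mpr hinj
  have : Module.Finite (MvPolynomial (Fin r) ℂ) A := hfin
  let e := (⊤ : Submodule (MvPolynomial (Fin r) ℂ) A).spanFinrank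
  refine ⟨D, e, fun M P hP => ?_⟩
  -- distance to a point of the fibre
  have hdist : ∀ φ : A →ₐ[ℂ] ℂ, proj g φ = 0 →
      (fun ψ => ‖rel s φ ψ‖ ^ D) =O[𝓝 φ] fun ψ => ‖proj g ψ‖ := by
    intro φ hφ
    have hi : ∀ i, (fun ψ : A →ₐ[ℂ] ℂ => (ψ (s i) - φ (s i)) ^ D) =O[𝓝 φ] fun ψ => ‖proj g ψ‖ := by
      intro i
      let p₀ : Polynomial ℂ := (mp i).map (MvPolynomial.eval 0)
      have hp₀ : p₀.Monic := (hmp i).map _
      obtain ⟨q, hq, hndvd⟩ := Polynomial.exists_eq_pow_rootMultiplicity_mul_and_not_dvd p₀ hp₀.ne_zero (φ (s i))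
      set a := p₀.rootMultiplicity (φ (s i))
      have hq0 : q.eval (φ (s i)) ≠ 0 := fun h => hndvd (Polynomial.dvd_iff_isRoot.mpr h)
      have haD : a ≤ D := by
        refine le_trans (le_trans ?_ (Finset.le_sup (f := fun i => (mp i).natDegree + 1) (Finset.mem_univ i))) (Nat.le_succ _)
        have := (Polynomial.rootMultiplicity_le_iff hp₀.ne_zero (φ (s i)) p₀.natDegree).mpr fun hd => by
          have := Polynomial.natDegree_le_of_dvd hd hp₀.ne_zero
          rw [Polynomial.natDegree_pow, Polynomial.natDegree_X_sub_C] at this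
          omega
        have hle : p₀.natDegree ≤ (mp i).natDegree := Polynomial.natDegree_map_le
        change a ≤ (mp i).natDegree + 1
        omega
      have hev : (fun ψ : A →ₐ[ℂ] ℂ => p₀.eval (ψ (s i))) =O[𝓝 φ] fun ψ => ‖proj g ψ‖ := by
        have heq : ∀ ψ : A →ₐ[ℂ] ℂ, p₀.eval (ψ (s i)) = ∑ j ∈ Finset.range ((mp i).natDegree + 1),
            (MvPolynomial.eval 0 ((mp i).coeff j) - MvPolynomial.eval (proj g ψ) ((mp i).coeff j)) * ψ (s i) ^ j := by
          intro ψ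
          have h0 := congr(ψ $(hroot i))
          rw [map_zero, apply_eval₂] at h0
          rw [Polynomial.eval_map, Polynomial.eval₂_eq_sum_range] at h0
          simp only [p₀, Polynomial.eval_map, Polynomial.eval₂_eq_sum_range, sub_mul,
            Finset.sum_sub_distrib, h0, sub_zero]
        simp only [heq]
        refine IsBigO.fun_sum fun j _ => ?_
        have h1 : (fun ψ : A →ₐ[ℂ] ℂ => MvPolynomial.eval 0 ((mp i).coeff j) -
            MvPolynomial.eval (proj g ψ) ((mp i).coeff j)) =O[𝓝 φ] fun ψ => ‖proj g ψ‖ := by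
          have hd : DifferentiableAt ℂ (fun z : Fin r → ℂ => MvPolynomial.eval z ((mp i).coeff j)) 0 := by
            induction (mp i).coeff j using MvPolynomial.induction_on with
            | C c => simp only [MvPolynomial.eval_C]; exact differentiableAt_const _
            | add p q hp hq => simp only [map_add]; exact hp.add hq
            | mul_X p j hp => simp only [map_mul, MvPolynomial.eval_X]; exact hp.mul (differentiableAt_apply (𝕜 := ℂ) j _)
          have ht : Tendsto (proj g) (𝓝 φ) (𝓝 0) := hφ ▸ (continuous_proj g).tendsto φ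
          have := (hd.hasFDerivAt.isBigO_sub.comp_tendsto ht).norm_right
          refine this.neg_left.congr (fun ψ => by simp) fun ψ => by simp
        simpa using h1.mul ((((continuous_eval (s i)).pow j).tendsto φ).isBigO_one ℝ)
      have hqb : (fun ψ : A →ₐ[ℂ] ℂ => (q.eval (ψ (s i)))⁻¹) =O[𝓝 φ] fun _ => (1 : ℝ) :=
        (((q.continuous.comp (continuous_eval (s i))).continuousAt).inv₀ hq0).isBigO_one ℝ
      have hne : ∀ᶠ ψ in 𝓝 φ, q.eval (ψ (s i)) ≠ 0 :=
        ((q.continuous.comp (continuous_eval (s i))).continuousAt).eventually_ne hq0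
      have ha : (fun ψ : A →ₐ[ℂ] ℂ => (ψ (s i) - φ (s i)) ^ a) =O[𝓝 φ] fun ψ => ‖proj g ψ‖ := by
        refine (hev.mul hqb).congr' ?_ (Eventually.of_forall fun ψ => mul_one _)
        refine hne.mono fun ψ h => ?_
        change p₀.eval (ψ (s i)) * _ = _
        conv_lhs => rw [hq]
        simp only [Polynomial.eval_mul, Polynomial.eval_pow, Polynomial.eval_sub, Polynomial.eval_X,
          Polynomial.eval_C]
        field_simp
      have hb : (fun ψ : A →ₐ[ℂ] ℂ => (ψ (s i) - φ (s i)) ^ (D - a)) =O[𝓝 φ] fun _ => (1 : ℝ) :=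
        ((((continuous_eval (s i)).sub continuous_const).pow (D - a)).tendsto φ).isBigO_one ℝ
      exact (ha.mul hb).congr (fun ψ => by rw [← pow_add, Nat.add_sub_cancel' haD]) fun ψ => mul_one _
    have hsum : (fun ψ : A →ₐ[ℂ] ℂ => ∑ i : Fin n, ‖(ψ (s i) - φ (s i)) ^ D‖) =O[𝓝 φ]
        fun ψ => ‖proj g ψ‖ := IsBigO.fun_sum fun i _ => (hi i).norm_left
    refine IsBigO.trans ?_ hsum
    refine IsBigO.of_bound 1 (Eventually.of_forall fun ψ => ?_)
    have hnn : (0 : ℝ) ≤ ∑ i : Fin n, ‖(ψ (s i) - φ (s i)) ^ D‖ := Finset.sum_nonneg fun _ _ => norm_nonneg _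
    rw [one_mul, Real.norm_of_nonneg (by positivity), Real.norm_of_nonneg hnn]
    rcases isEmpty_or_nonempty (Fin n) with hn | hn
    · have hD : D ≠ 0 := Nat.succ_ne_zero _
      rw [Subsingleton.elim (rel s φ ψ) 0, norm_zero, zero_pow hD]
      exact hnn
    · obtain ⟨i, -, hmax⟩ := Finset.univ.exists_max_image (fun i => ‖ψ (s i) - φ (s i)‖) Finset.univ_nonempty
      calc ‖rel s φ ψ‖ ^ D ≤ ‖ψ (s i) - φ (s i)‖ ^ D := pow_le_pow_left₀ (norm_nonneg _)
            ((pi_norm_le_iff_of_nonneg (norm_nonneg _)).mpr fun j => hmax j (Finset.mem_univ j)) D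
        _ = ‖(ψ (s i) - φ (s i)) ^ D‖ := (norm_pow _ _).symm
        _ ≤ _ := Finset.single_le_sum (f := fun i => ‖(ψ (s i) - φ (s i)) ^ D‖)
          (fun j _ => norm_nonneg _) (Finset.mem_univ i)
  -- a function vanishing at the other points of the fibre
  have hfib : {φ : A →ₐ[ℂ] ℂ | proj g φ = 0}.Finite := finite_fibre g hint 0
  obtain ⟨u₀, hu₀, hu₁⟩ : ∃ u : A, φ₀ u ≠ 0 ∧ ∀ φ, proj g φ = 0 → φ ≠ φ₀ → φ u = 0 := by
    have : ∀ φ : A →ₐ[ℂ] ℂ, φ ≠ φ₀ → ∃ a, φ a = 0 ∧ φ₀ a ≠ 0 := by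
      intro φ hne
      obtain ⟨a, ha⟩ : ∃ a, φ a ≠ φ₀ a := by
        by_contra hcon
        push Not at hcon
        exact hne (AlgHom.ext hcon)
      exact ⟨a - algebraMap ℂ A (φ a), by simp, by simpa [sub_eq_zero] using ha.symm⟩
    choose a ha0 ha1 using this
    refine ⟨∏ φ ∈ (hfib.toFinset.erase φ₀).attach, a φ.1 (Finset.ne_of_mem_erase φ.2), ?_, ?_⟩
    · rw [map_prod]; exact Finset.prod_ne_zero_iff.mpr fun φ _ => ha1 _ _
    · intro φ hφ hne
      rw [map_prod]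
      exact Finset.prod_eq_zero (Finset.mem_attach _ ⟨φ, Finset.mem_erase.mpr ⟨hne, hfib.mem_toFinset.mpr hφ⟩⟩)
        (ha0 φ hne)
  let N := D * M
  let P' := u₀ ^ N * P
  refine ⟨u₀ ^ N, by rw [map_pow]; exact pow_ne_zero _ hu₀, ?_⟩
  -- bound along the fibre
  have hbound : ∀ φ : A →ₐ[ℂ] ℂ, proj g φ = 0 →
      (fun ψ => ψ P') =O[𝓝 φ] fun ψ => ‖proj g ψ‖ ^ M := by
    intro φ hφ
    have h1 : (fun ψ => ψ P') =O[𝓝 φ] fun ψ => ‖rel s φ ψ‖ ^ N := by
      simp only [P', map_mul, map_pow]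
      by_cases hne : φ = φ₀
      · subst hne
        have hb : (fun ψ : A →ₐ[ℂ] ℂ => ψ u₀ ^ N) =O[𝓝 φ] fun _ => (1 : ℝ) :=
          (((continuous_eval u₀).pow N).tendsto φ).isBigO_one ℝ
        exact (hb.mul hP).congr_right fun ψ => one_mul _
      · have h1 : (fun ψ : A →ₐ[ℂ] ℂ => ψ u₀) =O[𝓝 φ] fun ψ => ‖rel s φ ψ‖ := by
          simpa [hu₁ φ hφ hne] using isBigO_rel hs φ u₀
        exact ((h1.pow N).mul (((continuous_eval P).tendsto φ).isBigO_one ℝ)).congr_right fun ψ => mul_one _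
    refine h1.trans ?_
    simp only [N, pow_mul]
    exact (hdist φ hφ).pow M
  choose C hC using fun φ hφ => (hbound φ hφ).bound
  obtain ⟨C₁, hC₁⟩ : ∃ C₁ : ℝ, ∀ φ hφ, C φ hφ ≤ C₁ := by
    refine ⟨∑ φ ∈ hfib.toFinset.attach, |C φ.1 (hfib.mem_toFinset.mp φ.2)|, fun φ hφ => ?_⟩
    exact (le_abs_self _).trans (Finset.single_le_sum (f := fun φ : hfib.toFinset =>
      |C φ.1 (hfib.mem_toFinset.mp φ.2)|) (fun _ _ => abs_nonneg _) (Finset.mem_attach _ ⟨φ, hfib.mem_toFinset.mpr hφ⟩))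
  have hnear : ∀ᶠ z in 𝓝 (0 : Fin r → ℂ), ∀ ψ, proj g ψ = z → ‖ψ P'‖ ≤ C₁ * ‖z‖ ^ M := by
    refine ((isProperMap_proj g hint).isClosedMap.eventually_nhds_fiber
      (p := fun ψ => ‖ψ P'‖ ≤ C₁ * ‖proj g ψ‖ ^ M) 0 fun φ hφ => ?_).mono fun z hz ψ hψ => hψ ▸ hz ψ hψ
    refine (hC φ hφ).mono fun ψ hψ => hψ.trans ?_
    rw [Real.norm_of_nonneg (by positivity)]
    exact mul_le_mul_of_nonneg_right (hC₁ φ hφ) (by positivity)
  -- the minimal polynomial
  have hy : IsIntegral (MvPolynomial (Fin r) ℂ) P' := Algebra.IsIntegral.isIntegral P'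
  set μ := minpoly (MvPolynomial (Fin r) ℂ) P' with hμ
  have hμm : μ.Monic := minpoly.monic hy
  have hdeg : μ.natDegree ≤ e := by
    obtain ⟨p, hp, hpd, hp0⟩ := LinearMap.exists_monic_and_natDegree_eq_and_aeval_eq_zero
      (MvPolynomial (Fin r) ℂ) (Algebra.lmul (MvPolynomial (Fin r) ℂ) A P')
    have hp1 : Polynomial.aeval P' p = 0 := by
      rw [Polynomial.aeval_algHom_apply] at hp0
      simpa using congr($hp0 (1 : A))
    exact (Polynomial.natDegree_le_natDegree (minpoly.min _ _ hp hp1)).trans hpd.le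
  have hrootbd : ∀ᶠ z in 𝓝 (0 : Fin r → ℂ),
      ∀ c ∈ (μ.map (MvPolynomial.eval z)).roots, ‖c‖ ≤ C₁ * ‖z‖ ^ M := by
    refine hnear.mono fun z hz c hc => ?_
    have hc' : (μ.map (MvPolynomial.eval z)).eval c = 0 := (Polynomial.mem_roots'.mp hc).2
    let f : Polynomial (MvPolynomial (Fin r) ℂ) →ₐ[ℂ] A :=
      (Polynomial.aeval (R := MvPolynomial (Fin r) ℂ) P').restrictScalars ℂ
    let β : Polynomial (MvPolynomial (Fin r) ℂ) →ₐ[ℂ] ℂ :=
      { (Polynomial.evalRingHom c).comp (Polynomial.mapRingHom (MvPolynomial.eval z)) with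
        commutes' := fun a => by simp }
    obtain ⟨ψ, hψ⟩ := exists_lift f (by
        intro a
        obtain ⟨p, hp, hpa⟩ : IsIntegral (MvPolynomial (Fin r) ℂ) a := Algebra.IsIntegral.isIntegral a
        refine ⟨p.map Polynomial.C, hp.map _, ?_⟩
        have e : f.toRingHom.comp Polynomial.C = algebraMap (MvPolynomial (Fin r) ℂ) A :=
          RingHom.ext fun q => Polynomial.aeval_C P' q
        rw [Polynomial.eval₂_map]
        change p.eval₂ (f.toRingHom.comp Polynomial.C) a = 0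
        rw [e]; exact hpa) β (fun p hp => by
        obtain ⟨q, rfl⟩ := minpoly.isIntegrallyClosed_dvd hy (show Polynomial.aeval P' p = 0 from hp)
        change (Polynomial.evalRingHom c) ((μ * q).map (MvPolynomial.eval z)) = 0
        rw [Polynomial.map_mul, map_mul]
        change (μ.map (MvPolynomial.eval z)).eval c * _ = 0
        rw [hc', zero_mul])
    have h1 : proj g ψ = z := funext fun i => by
      have := congr($hψ (Polynomial.C (MvPolynomial.X i)))
      change ψ (algebraMap (MvPolynomial (Fin r) ℂ) A (MvPolynomial.X i)) = z i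
      simpa [f, β] using this
    have h2 : ψ P' = c := by simpa [f, β] using congr($hψ Polynomial.X)
    exact h2 ▸ hz ψ h1
  have hcoeff : ∀ j < μ.natDegree, μ.coeff j ∈ MvPolynomial.idealOfVars (Fin r) ℂ ^ M := by
    intro j hj
    refine mem_pow_idealOfVars_of_isBigO ?_
    refine IsBigO.trans (g := fun z : Fin r → ℂ =>
        (C₁ * ‖z‖ ^ M) ^ (μ.natDegree - j) * (μ.natDegree.choose j : ℝ)) (IsBigO.of_bound 1 ?_) ?_
    · refine hrootbd.mono fun z hz => ?_
      rw [one_mul]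
      refine le_trans ?_ (le_abs_self _)
      rw [← Polynomial.coeff_map]
      exact Polynomial.coeff_le_of_roots_le j hμm (IsAlgClosed.splits _) hz
    · obtain ⟨k, hk⟩ : ∃ k, μ.natDegree - j = k + 1 := ⟨μ.natDegree - j - 1, by omega⟩
      have hb : (fun z : Fin r → ℂ => C₁ * (C₁ * ‖z‖ ^ M) ^ k * (μ.natDegree.choose j : ℝ)) =O[𝓝 0]
          fun _ => (1 : ℝ) := by
        refine (Continuous.tendsto ?_ 0).isBigO_one ℝ
        fun_prop
      refine ((isBigO_refl (fun z : Fin r → ℂ => ‖z‖ ^ M) _).mul hb).congr (fun z => ?_) fun z => mul_one _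
      rw [hk]; ring
  have hvars : ∀ x ∈ MvPolynomial.idealOfVars (Fin r) ℂ ^ M, g x ∈ RingHom.ker φ₀ ^ M := by
    intro x hx
    have h1 := Ideal.mem_map_of_mem g hx
    rw [Ideal.map_pow] at h1
    refine Ideal.pow_right_mono (Ideal.map_le_iff_le_comap.mpr (Ideal.span_le.mpr ?_)) M h1
    rintro _ ⟨i, rfl⟩
    exact congrFun hg0 i
  have hpow : P' ^ μ.natDegree ∈ RingHom.ker φ₀ ^ M := by
    have h0 := minpoly.aeval (MvPolynomial (Fin r) ℂ) P'
    rw [← hμ, hμm.as_sum, map_add, map_pow, Polynomial.aeval_X, map_sum,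
      add_eq_zero_iff_eq_neg] at h0
    rw [h0]
    refine neg_mem (Ideal.sum_mem _ fun j hj => ?_)
    rw [map_mul, Polynomial.aeval_C]
    exact Ideal.mul_mem_right _ _ (hvars _ (hcoeff j (Finset.mem_range.mp hj)))
  rw [← Nat.sub_add_cancel hdeg, pow_add]
  exact Ideal.mul_mem_left _ _ hpow

/-- The reduced case. -/
theorem key_reduced [IsReduced A] [Algebra.FiniteType ℂ A] (s : Fin n → A)
    (hs : Function.Surjective (MvPolynomial.aeval (R := ℂ) s)) (φ₀ : A →ₐ[ℂ] ℂ) :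
    ∃ D e : ℕ, ∀ (M : ℕ) (P : A), (fun ψ : A →ₐ[ℂ] ℂ => ψ P) =O[𝓝 φ₀] (fun ψ => ‖rel s φ₀ ψ‖ ^ (D * M)) →
      ∃ u : A, φ₀ u ≠ 0 ∧ (u * P) ^ e ∈ RingHom.ker φ₀ ^ M := by
  classical
  have : IsNoetherianRing A := Algebra.FiniteType.isNoetherianRing ℂ A
  have hfin := minimalPrimes.finite_of_isNoetherianRing A
  have key : ∀ Q ∈ minimalPrimes A, ∃ D e : ℕ, ∀ (M : ℕ) (P : A),
      (fun ψ : A →ₐ[ℂ] ℂ => ψ P) =O[𝓝 φ₀] (fun ψ => ‖rel s φ₀ ψ‖ ^ (D * M)) →
      ∃ u : A, φ₀ u ≠ 0 ∧ (u * P) ^ e ∈ RingHom.ker φ₀ ^ M ⊔ Q := by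
    intro Q hQ
    have : Q.IsPrime := hQ.1.1
    by_cases hle : Q ≤ RingHom.ker φ₀
    swap
    · obtain ⟨u, hu, hu'⟩ := SetLike.not_le_iff_exists.mp hle
      exact ⟨0, 1, fun M P _ => ⟨u, hu', Ideal.mem_sup_right (by rw [pow_one]; exact Q.mul_mem_right _ hu)⟩⟩
    let mk : A →ₐ[ℂ] A ⧸ Q := Ideal.Quotient.mkₐ ℂ Q
    have hmk : Function.Surjective mk := Ideal.Quotient.mkₐ_surjective ℂ Q
    have : Algebra.FiniteType ℂ (A ⧸ Q) := Algebra.FiniteType.of_surjective mk hmk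
    let φ' : (A ⧸ Q) →ₐ[ℂ] ℂ := Ideal.Quotient.liftₐ Q φ₀ fun a ha => hle ha
    have hφ' : φ'.comp mk = φ₀ := AlgHom.ext fun a => rfl
    have hs' : Function.Surjective (MvPolynomial.aeval (R := ℂ) fun i => mk (s i)) := by
      have : (MvPolynomial.aeval fun i => mk (s i)) = mk.comp (MvPolynomial.aeval s) :=
        MvPolynomial.algHom_ext fun i => by simp
      rw [this]; exact hmk.comp hs
    obtain ⟨D, e, hDe⟩ := key_domain _ hs' φ'
    refine ⟨D, e, fun M P hP => ?_⟩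
    have hP' := hP.comp_tendsto (k := fun ψ : (A ⧸ Q) →ₐ[ℂ] ℂ => ψ.comp mk) (l' := 𝓝 φ')
      (by have := (continuous_comp mk).tendsto φ'; rwa [hφ'] at this)
    obtain ⟨u, hu, hmem⟩ := hDe M (mk P) hP'
    obtain ⟨u, rfl⟩ := hmk u
    refine ⟨u, hu, ?_⟩
    rw [← map_mul, ← map_pow] at hmem
    have hker : RingHom.ker φ' ^ M = (RingHom.ker φ₀ ^ M).map mk := by
      rw [Ideal.map_pow]
      congr 1
      refine le_antisymm (fun x hx => ?_) (Ideal.map_le_iff_le_comap.mpr fun x hx => hx)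
      obtain ⟨x, rfl⟩ := hmk x
      exact Ideal.mem_map_of_mem mk hx
    rw [hker, ← Ideal.mem_comap, Ideal.comap_map_of_surjective mk hmk] at hmem
    have hQker : Ideal.comap mk ⊥ = Q := Ideal.mk_ker
    rwa [hQker] at hmem
  choose D e hDe using key
  let S := hfin.toFinset
  refine ⟨∑ Q ∈ S.attach, D Q.1 (hfin.mem_toFinset.mp Q.2), ∑ Q ∈ S.attach, e Q.1 (hfin.mem_toFinset.mp Q.2),
    fun M P hP => ?_⟩
  have hQ : ∀ Q : S, ∃ u : A, φ₀ u ≠ 0 ∧
      (u * P) ^ (e Q.1 (hfin.mem_toFinset.mp Q.2)) ∈ RingHom.ker φ₀ ^ M ⊔ Q.1 := by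
    intro Q
    refine hDe Q.1 _ M P (hP.trans ?_)
    refine IsBigO.of_bound 1 ?_
    have hsmall : ∀ᶠ ψ in 𝓝 φ₀, ‖rel s φ₀ ψ‖ ≤ 1 :=
      ((tendsto_rel s φ₀).norm.eventually_le_const (by simp))
    refine hsmall.mono fun ψ hψ => ?_
    rw [one_mul, Real.norm_of_nonneg (by positivity), Real.norm_of_nonneg (by positivity)]
    exact pow_le_pow_of_le_one (norm_nonneg _) hψ (Nat.mul_le_mul_right M
      (Finset.single_le_sum (f := fun Q : S => D Q.1 (hfin.mem_toFinset.mp Q.2)) (fun _ _ => Nat.zero_le _)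
        (Finset.mem_attach _ Q)))
  choose u hu hmem using hQ
  refine ⟨∏ Q ∈ S.attach, u Q, by rw [map_prod]; exact Finset.prod_ne_zero_iff.mpr fun Q _ => hu Q, ?_⟩
  set U := ∏ Q ∈ S.attach, u Q
  have hUQ : ∀ Q : S, (U * P) ^ (e Q.1 (hfin.mem_toFinset.mp Q.2)) ∈ RingHom.ker φ₀ ^ M ⊔ Q.1 := by
    intro Q
    obtain ⟨w, hw⟩ : u Q ∣ U := Finset.dvd_prod_of_mem u (Finset.mem_attach _ Q)
    rw [hw, mul_right_comm, mul_pow]
    exact Ideal.mul_mem_right _ _ (hmem Q)
  rw [← Finset.prod_pow_eq_pow_sum]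
  have hprod : ∀ T : Finset S,
      ∏ Q ∈ T, (U * P) ^ (e Q.1 (hfin.mem_toFinset.mp Q.2)) ∈ RingHom.ker φ₀ ^ M ⊔ T.inf (fun Q => Q.1) := by
    intro T
    induction T using Finset.induction_on with
    | empty => simp
    | insert a T ha ih =>
      rw [Finset.prod_insert ha, Finset.inf_insert]
      obtain ⟨x, hx, y, hy, hxy⟩ := Submodule.mem_sup.mp (hUQ a)
      obtain ⟨x', hx', y', hy', hxy'⟩ := Submodule.mem_sup.mp ih
      rw [← hxy, ← hxy']
      refine Submodule.mem_sup.mpr ⟨x * (x' + y') + y * x', add_mem (Ideal.mul_mem_right _ _ hx)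
        (Ideal.mul_mem_left _ _ hx'), y * y', ⟨a.1.mul_mem_right _ hy, Ideal.mul_mem_left _ _ hy'⟩, by ring⟩
  have hinf : S.attach.inf (fun Q => Q.1) = ⊥ := by
    rw [eq_bot_iff]
    intro x hx
    have hx' : x ∈ sInf (minimalPrimes A) := by
      rw [Ideal.mem_sInf]
      intro Q hQ
      exact Finset.inf_le (f := fun Q : S => Q.1) (Finset.mem_attach _ ⟨Q, hfin.mem_toFinset.mpr hQ⟩) hx
    have h0 : (sInf (minimalPrimes A) : Ideal A) = nilradical A := Ideal.sInf_minimalPrimes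
    rw [h0, nilradical_eq_zero] at hx'
    exact hx'
  have := hprod S.attach
  rwa [hinf, sup_bot_eq] at this

end

end Groth.Agent.AnGerm
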