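import Groth.Agent.AnGerm.Germ
import Mathlib.Analysis.Analytic.Order
import Mathlib.Analysis.Analytic.Uniqueness
import Mathlib.RingTheory.Polynomial.Basic
import Mathlib.Analysis.Normed.Module.FiniteDimension

/-!
The ring of germs of holomorphic functions is Noetherian.
-/

set_option autoImplicit false

open Filter Topology Metric Complex

namespace Groth.Agent.AnGerm

noncomputable section

/-- A linear change of coordinates. -/
def compEquiv {E F : Type*} [NormedAddCommGroup E] [NormedSpace ℂ E] [NormedAddCommGroup F]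
    [NormedSpace ℂ F] (L : E ≃L[ℂ] F) : Hol F ≃+* Hol E :=
  RingEquiv.ofRingHom (comp L (Eventually.of_forall fun _ => L.differentiableAt) L.map_zero)
    (comp L.symm (Eventually.of_forall fun _ => L.symm.differentiableAt) L.symm.map_zero)
    (RingHom.ext fun ⟨_, f, _, rfl⟩ => Subtype.ext (Germ.coe_eq.mpr (Eventually.of_forall fun z => by simp)))
    (RingHom.ext fun ⟨_, f, _, rfl⟩ => Subtype.ext (Germ.coe_eq.mpr (Eventually.of_forall fun z => by simp)))

variable {W : Type*} [NormedAddCommGroup W] [NormedSpace ℂ W]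

/-- A function on `ℂ × W` whose restriction to `ℂ × 0` has finite order at the origin. -/
structure Slice (W : Type*) [NormedAddCommGroup W] [NormedSpace ℂ W] where
  f : ℂ × W → ℂ
  hf : IsHolNear f
  m : ℕ
  u : ℂ → ℂ
  ρ : ℝ
  ρpos : 0 < ρ
  diff : ∀ p ∈ ball (0 : ℂ × W) ρ, DifferentiableAt ℂ f p
  udiff : DifferentiableOn ℂ u (ball 0 ρ)
  une : ∀ t ∈ ball (0 : ℂ) ρ, u t ≠ 0
  eq : ∀ t ∈ ball (0 : ℂ) ρ, f (t, 0) = t ^ m * u t

theorem exists_slice {f : ℂ × W → ℂ} (hf : IsHolNear f)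
    (h : ¬ ∀ᶠ t in 𝓝 (0 : ℂ), f (t, 0) = 0) : ∃ S : Slice W, S.f = f := by
  have hev : ∀ᶠ t in 𝓝 (0 : ℂ), DifferentiableAt ℂ f (t, 0) :=
    (continuous_id.prodMk continuous_const).continuousAt.eventually (f := fun t : ℂ => (t, (0 : W)))
      (p := fun p => DifferentiableAt ℂ f p) hf
  have hd : ∀ᶠ t in 𝓝 (0 : ℂ), DifferentiableAt ℂ (fun t => f (t, 0)) t :=
    hev.mono fun t ht => ht.comp t (f := fun t : ℂ => (t, (0 : W))) (by fun_prop)
  have han : AnalyticAt ℂ (fun t => f (t, 0)) 0 := Complex.analyticAt_iff_eventually_differentiableAt.mpr hd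
  obtain ⟨m, u, hu, hu0, hfu⟩ := han.exists_eventuallyEq_pow_smul_nonzero_iff.mpr h
  have h1 := (hu.eventually_analyticAt.mono fun t ht => ht.differentiableAt).and
    ((hu.continuousAt.eventually_ne hu0).and hfu)
  obtain ⟨ε, hε, hb⟩ := Metric.eventually_nhds_iff_ball.mp h1
  obtain ⟨δ, hδ, hd⟩ := Metric.eventually_nhds_iff_ball.mp hf
  exact ⟨{ f := f, hf := hf, m := m, u := u, ρ := min ε δ, ρpos := lt_min hε hδ
           diff := fun p hp => hd p (ball_subset_ball (min_le_right _ _) hp)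
           udiff := fun t ht => (hb t (ball_subset_ball (min_le_left _ _) ht)).1.differentiableWithinAt
           une := fun t ht => (hb t (ball_subset_ball (min_le_left _ _) ht)).2.1
           eq := fun t ht => by
             have := (hb t (ball_subset_ball (min_le_left _ _) ht)).2.2
             simpa using this }, rfl⟩

namespace Slice

variable (S : Slice W)

/-- A radius fit for `G`. -/
def Good (G : ℂ × W → ℂ) (r : ℝ) : Prop :=
  0 < r ∧ r < S.ρ ∧ ∀ᶠ w in 𝓝 (0 : W), ∀ ζ ∈ closedBall (0 : ℂ) r, ∀ᶠ p in 𝓝 (ζ, w), DifferentiableAt ℂ G p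

variable {S}

lemma Good.mono {G : ℂ × W → ℂ} {r r' : ℝ} (h : S.Good G r) (h0 : 0 < r') (hle : r' ≤ r) : S.Good G r' :=
  ⟨h0, hle.trans_lt h.2.1, h.2.2.mono fun _ hw ζ hζ => hw ζ (closedBall_subset_closedBall hle hζ)⟩

variable (S)

lemma exists_good {G : ℂ × W → ℂ} (hG : IsHolNear G) : ∃ r, S.Good G r := by
  obtain ⟨ε, hε, hb⟩ := Metric.eventually_nhds_iff_ball.mp hG
  refine ⟨min ε S.ρ / 2, by have := S.ρpos; positivity, by
    have := min_le_right ε S.ρ; linarith [S.ρpos], ?_⟩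
  filter_upwards [ball_mem_nhds (0 : W) hε] with w hw ζ hζ
  have hmem : (ζ, w) ∈ ball (0 : ℂ × W) ε := by
    simp only [mem_closedBall_zero_iff, mem_ball_zero_iff] at hζ hw ⊢
    rw [Prod.norm_def]
    exact max_lt (by have := min_le_left ε S.ρ; linarith) hw
  exact Filter.eventually_of_mem (isOpen_ball.mem_nhds hmem) hb

lemma mem_ball_of {r : ℝ} (hr : r < S.ρ) {w : W} (hw : w ∈ ball (0 : W) S.ρ) {ζ : ℂ}
    (hζ : ζ ∈ closedBall (0 : ℂ) r) : (ζ, w) ∈ ball (0 : ℂ × W) S.ρ := by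
  simp only [mem_closedBall_zero_iff, mem_ball_zero_iff] at hζ hw ⊢
  rw [Prod.norm_def]
  exact max_lt (by linarith) hw

lemma eventually_diff {r : ℝ} (hr : r < S.ρ) {w : W} (hw : w ∈ ball (0 : W) S.ρ) {ζ : ℂ}
    (hζ : ζ ∈ closedBall (0 : ℂ) r) : ∀ᶠ p in 𝓝 (ζ, w), DifferentiableAt ℂ S.f p :=
  Filter.eventually_of_mem (isOpen_ball.mem_nhds (S.mem_ball_of hr hw hζ)) S.diff

lemma eventually_ne {r r' : ℝ} (hr' : 0 < r') (hr : r < S.ρ) :
    ∀ᶠ w in 𝓝 (0 : W), ∀ ζ ∈ closedBall (0 : ℂ) r \ ball 0 r', S.f (ζ, w) ≠ 0 := by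
  refine IsCompact.eventually_forall_of_forall_eventually (P := fun w ζ => S.f (ζ, w) ≠ 0)
    ((isCompact_closedBall (0 : ℂ) r).diff isOpen_ball) fun ζ ⟨hζ, hζ'⟩ => ?_
  have hζρ : ζ ∈ ball (0 : ℂ) S.ρ := closedBall_subset_ball hr hζ
  have hne : S.f (ζ, 0) ≠ 0 := by
    rw [S.eq ζ hζρ]
    refine mul_ne_zero (pow_ne_zero _ fun e => hζ' ?_) (S.une ζ hζρ)
    rw [e]; exact mem_ball_self hr'
  refine ((S.diff _ (S.mem_ball_of hr (mem_ball_self S.ρpos) hζ)).continuousAt.comp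
    (f := fun q : W × ℂ => (q.2, q.1)) (x := ((0 : W), ζ)) (by fun_prop)).eventually_ne hne

lemma eventually_ne_sphere {r : ℝ} (h0 : 0 < r) (hr : r < S.ρ) :
    ∀ᶠ w in 𝓝 (0 : W), ∀ ζ ∈ sphere (0 : ℂ) r, S.f (ζ, w) ≠ 0 :=
  (S.eventually_ne h0 hr).mono fun _ hw ζ hζ => hw ζ ⟨sphere_subset_closedBall hζ, fun h => by
    rw [mem_ball_zero_iff, mem_sphere_zero_iff_norm.mp hζ] at h; exact lt_irrefl _ h⟩

lemma eventually_small {r : ℝ} (h0 : 0 < r) (hr : r < S.ρ) :
    ∀ᶠ w in 𝓝 (0 : W), ∀ ζ ∈ sphere (0 : ℂ) r,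
      ‖(S.f (ζ, w) - ζ ^ S.m * S.u ζ) / S.u ζ‖ * (2 / r) ^ S.m ≤ 1 / 2 := by
  refine IsCompact.eventually_forall_of_forall_eventually
    (P := fun w ζ => ‖(S.f (ζ, w) - ζ ^ S.m * S.u ζ) / S.u ζ‖ * (2 / r) ^ S.m ≤ 1 / 2)
    (isCompact_sphere (0 : ℂ) r) fun ζ hζ => ?_
  have hζρ : ζ ∈ ball (0 : ℂ) S.ρ := closedBall_subset_ball hr (sphere_subset_closedBall hζ)
  have hu : ContinuousAt (fun q : W × ℂ => S.u q.2) ((0 : W), ζ) :=
    ((S.udiff.differentiableAt (isOpen_ball.mem_nhds hζρ)).continuousAt).comp continuous_snd.continuousAt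
  have hfc : ContinuousAt (fun q : W × ℂ => S.f (q.2, q.1)) ((0 : W), ζ) :=
    (S.diff _ (S.mem_ball_of hr (mem_ball_self S.ρpos) (sphere_subset_closedBall hζ))).continuousAt.comp
      (f := fun q : W × ℂ => (q.2, q.1)) (by fun_prop)
  refine ((((hfc.sub ((continuous_snd.continuousAt.pow S.m).mul hu)).div hu (S.une ζ hζρ)).norm).mul
    continuousAt_const).eventually_le_const ?_
  simp [S.eq ζ hζρ]

variable [FiniteDimensional ℂ W]

/-- The moments. -/
def mom (G : ℂ × W → ℂ) (r : ℝ) (k : ℕ) (w : W) : ℂ :=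
  ∮ ζ in C(0, r), G (ζ, w) * ζ ^ k / S.f (ζ, w)

lemma isHolNear_mom {G : ℂ × W → ℂ} {r : ℝ} (h : S.Good G r) (k : ℕ) : IsHolNear (S.mom G r k) := by
  filter_upwards [h.2.2, S.eventually_ne_sphere h.1 h.2.1, ball_mem_nhds (0 : W) S.ρpos] with w hG hne hw
  refine differentiableAt_circleIntegral (F := fun q : W × ℂ => G (q.2, q.1) * q.2 ^ k / S.f (q.2, q.1))
    h.1.le fun ζ hζ => ?_
  have hsw : ContinuousAt (fun q : W × ℂ => (q.2, q.1)) (w, ζ) := by fun_prop
  filter_upwards [hsw.eventually (hG ζ (sphere_subset_closedBall hζ)),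
    hsw.eventually (S.eventually_diff h.2.1 hw (sphere_subset_closedBall hζ)),
    hsw.eventually ((S.diff _ (S.mem_ball_of h.2.1 hw (sphere_subset_closedBall hζ))).continuousAt.eventually_ne
      (hne ζ hζ))] with q h1 h2 h3
  have e1 : DifferentiableAt ℂ (fun q : W × ℂ => G (q.2, q.1)) q :=
    h1.comp q (f := fun q : W × ℂ => (q.2, q.1)) (by fun_prop)
  have e2 : DifferentiableAt ℂ (fun q : W × ℂ => S.f (q.2, q.1)) q :=
    h2.comp q (f := fun q : W × ℂ => (q.2, q.1)) (by fun_prop)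
  simp only [div_eq_mul_inv]
  exact (e1.mul (by fun_prop)).mul (e2.inv h3)

lemma mom_radius {G : ℂ × W → ℂ} {r r' : ℝ} (h : S.Good G r) (h0 : 0 < r') (hle : r' ≤ r) (k : ℕ) :
    S.mom G r' k =ᶠ[𝓝 0] S.mom G r k := by
  filter_upwards [h.2.2, S.eventually_ne h0 h.2.1, ball_mem_nhds (0 : W) S.ρpos] with w hG hne hw
  have hd : ∀ ζ ∈ closedBall (0 : ℂ) r \ ball 0 r',
      DifferentiableAt ℂ (fun ζ => G (ζ, w) * ζ ^ k / S.f (ζ, w)) ζ := by
    intro ζ hζ
    have e1 : DifferentiableAt ℂ (fun ζ => G (ζ, w)) ζ :=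
      (hG ζ hζ.1).self_of_nhds.comp ζ (f := fun ζ : ℂ => (ζ, w)) (by fun_prop)
    have e2 : DifferentiableAt ℂ (fun ζ => S.f (ζ, w)) ζ :=
      (S.diff _ (S.mem_ball_of h.2.1 hw hζ.1)).comp ζ (f := fun ζ : ℂ => (ζ, w)) (by fun_prop)
    exact (e1.mul (by fun_prop)).div e2 (hne ζ hζ)
  refine (circleIntegral_eq_of_differentiable_on_annulus_off_countable h0 hle Set.countable_empty
    (fun ζ hζ => (hd ζ hζ).continuousAt.continuousWithinAt) fun z hz => hd z ?_).symm
  exact ⟨ball_subset_closedBall hz.1.1, fun h => hz.1.2 (ball_subset_closedBall h)⟩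

lemma mom_congr {G G' : ℂ × W → ℂ} (h : G =ᶠ[𝓝 0] G') :
    ∃ ε > (0 : ℝ), ∀ r, 0 < r → r < ε → ∀ k, S.mom G r k =ᶠ[𝓝 0] S.mom G' r k := by
  obtain ⟨ε, hε, hb⟩ := Metric.eventually_nhds_iff_ball.mp h
  refine ⟨ε, hε, fun r hr0 hr k => ?_⟩
  filter_upwards [ball_mem_nhds (0 : W) hε] with w hw
  refine circleIntegral.integral_congr hr0.le fun ζ hζ => ?_
  rw [hb (ζ, w) (by
    simp only [mem_sphere_zero_iff_norm, mem_ball_zero_iff] at hζ hw ⊢
    rw [Prod.norm_def]; exact max_lt (by linarith) hw)]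

/-- The moment map on representatives. -/
def momGerm (G : ℂ × W → ℂ) (hG : IsHolNear G) (k : ℕ) : Hol W :=
  AnGerm.mk _ (S.isHolNear_mom (S.exists_good hG).choose_spec k)

lemma momGerm_eq {G : ℂ × W → ℂ} (hG : IsHolNear G) {r : ℝ} (h : S.Good G r) (k : ℕ) :
    S.momGerm G hG k = AnGerm.mk _ (S.isHolNear_mom h k) := by
  rw [momGerm, mk_eq_mk]
  set r₀ := (S.exists_good hG).choose
  have h₀ : S.Good G r₀ := (S.exists_good hG).choose_spec
  exact (S.mom_radius h₀ (lt_min h₀.1 h.1) (min_le_left _ _) k).symm.trans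
    (S.mom_radius h (lt_min h₀.1 h.1) (min_le_right _ _) k)

lemma momGerm_congr {G G' : ℂ × W → ℂ} (hG : IsHolNear G) (hG' : IsHolNear G') (h : G =ᶠ[𝓝 0] G')
    (k : ℕ) : S.momGerm G hG k = S.momGerm G' hG' k := by
  obtain ⟨r₁, h₁⟩ := S.exists_good hG
  obtain ⟨r₂, h₂⟩ := S.exists_good hG'
  obtain ⟨ε, hε, he⟩ := S.mom_congr h
  let r := min (min r₁ r₂) (ε / 2)
  have hr : 0 < r := lt_min (lt_min h₁.1 h₂.1) (by positivity)
  rw [S.momGerm_eq hG (h₁.mono hr ((min_le_left _ _).trans (min_le_left _ _))) k,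
    S.momGerm_eq hG' (h₂.mono hr ((min_le_left _ _).trans (min_le_right _ _))) k, mk_eq_mk]
  exact he r hr ((min_le_right _ _).trans_lt (by linarith)) k

/-- Pullback from the parameter space. -/
def pull : Hol W →+* Hol (ℂ × W) :=
  comp Prod.snd (Eventually.of_forall fun _ => differentiableAt_snd) rfl

/-- The moment map. -/
def momMap (g : Hol (ℂ × W)) (k : ℕ) : Hol W :=
  S.momGerm (exists_mk g).choose (exists_mk g).choose_spec.choose k

lemma momMap_mk {G : ℂ × W → ℂ} (hG : IsHolNear G) (k : ℕ) :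
    S.momMap (AnGerm.mk G hG) k = S.momGerm G hG k :=
  S.momGerm_congr _ hG (mk_eq_mk.mp (exists_mk (AnGerm.mk G hG)).choose_spec.choose_spec) k

lemma momMap_add (a b : Hol (ℂ × W)) (k : ℕ) :
    S.momMap (a + b) k = S.momMap a k + S.momMap b k := by
  obtain ⟨A, hA, rfl⟩ := exists_mk a
  obtain ⟨B, hB, rfl⟩ := exists_mk b
  obtain ⟨r₁, h₁⟩ := S.exists_good hA
  obtain ⟨r₂, h₂⟩ := S.exists_good hB
  have hr : 0 < min r₁ r₂ := lt_min h₁.1 h₂.1
  have g₁ := h₁.mono hr (min_le_left _ _)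
  have g₂ := h₂.mono hr (min_le_right _ _)
  have g₃ : S.Good (fun z => A z + B z) (min r₁ r₂) := ⟨hr, g₁.2.1, (g₁.2.2.and g₂.2.2).mono
    fun w hw ζ hζ => ((hw.1 ζ hζ).and (hw.2 ζ hζ)).mono fun _ hp => hp.1.add hp.2⟩
  rw [mk_add, S.momMap_mk, S.momMap_mk, S.momMap_mk, S.momGerm_eq hA g₁, S.momGerm_eq hB g₂,
    S.momGerm_eq _ g₃, mk_add, mk_eq_mk]
  filter_upwards [g₁.2.2, g₂.2.2, S.eventually_ne_sphere hr g₁.2.1, ball_mem_nhds (0 : W) S.ρpos]
    with w hwA hwB hne hw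
  simp only [mom, add_mul, add_div]
  have hc : ∀ G : ℂ × W → ℂ, (∀ ζ ∈ closedBall (0 : ℂ) (min r₁ r₂), ∀ᶠ p in 𝓝 (ζ, w), DifferentiableAt ℂ G p) →
      CircleIntegrable (fun ζ => G (ζ, w) * ζ ^ k / S.f (ζ, w)) 0 (min r₁ r₂) := by
    intro G hG
    refine ContinuousOn.circleIntegrable hr.le fun ζ hζ => ?_
    refine ContinuousAt.continuousWithinAt (ContinuousAt.div (ContinuousAt.mul ?_ (by fun_prop)) ?_ (hne ζ hζ))
    · exact (hG ζ (sphere_subset_closedBall hζ)).self_of_nhds.continuousAt.comp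
        (f := fun ζ : ℂ => (ζ, w)) (by fun_prop)
    · exact (S.diff _ (S.mem_ball_of g₁.2.1 hw (sphere_subset_closedBall hζ))).continuousAt.comp
        (f := fun ζ : ℂ => (ζ, w)) (by fun_prop)
  exact circleIntegral.integral_add (hc A hwA) (hc B hwB)

lemma momMap_pull_mul (a : Hol W) (b : Hol (ℂ × W)) (k : ℕ) :
    S.momMap (pull a * b) k = a * S.momMap b k := by
  obtain ⟨A, hA, rfl⟩ := exists_mk a
  obtain ⟨B, hB, rfl⟩ := exists_mk b
  have hAp : IsHolNear fun p : ℂ × W => A p.2 :=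
    ((continuous_snd.continuousAt (x := (0 : ℂ × W))).eventually
      (p := fun w => DifferentiableAt ℂ A w) hA).mono fun p hp => hp.comp p differentiableAt_snd
  obtain ⟨r₁, h₁⟩ := S.exists_good (hAp.mul hB)
  obtain ⟨r₂, h₂⟩ := S.exists_good hB
  have hr : 0 < min r₁ r₂ := lt_min h₁.1 h₂.1
  have g₁ := h₁.mono hr (min_le_left _ _)
  have g₂ := h₂.mono hr (min_le_right _ _)
  rw [pull, comp_mk _ _ _ _ _ hAp, mk_mul, S.momMap_mk, S.momMap_mk, S.momGerm_eq hB g₂,
    S.momGerm_eq _ g₁, mk_mul, mk_eq_mk]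
  refine Eventually.of_forall fun w => ?_
  simp only [mom]
  rw [← circleIntegral.integral_const_mul]
  exact circleIntegral.integral_congr hr.le fun ζ _ => by ring

/-- The germ of `f`. -/
def fGerm : Hol (ℂ × W) := AnGerm.mk S.f S.hf

theorem momMap_fGerm_mul (q : Hol (ℂ × W)) (k : ℕ) : S.momMap (S.fGerm * q) k = 0 := by
  obtain ⟨Q, hQ, rfl⟩ := exists_mk q
  obtain ⟨r₁, h₁⟩ := S.exists_good (S.hf.mul hQ)
  obtain ⟨r₂, h₂⟩ := S.exists_good hQ
  have hr : 0 < min r₁ r₂ := lt_min h₁.1 h₂.1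
  have g₁ := h₁.mono hr (min_le_left _ _)
  have g₂ := h₂.mono hr (min_le_right _ _)
  rw [fGerm, mk_mul, S.momMap_mk, S.momGerm_eq _ g₁, mk_eq_zero]
  filter_upwards [g₂.2.2, S.eventually_ne_sphere hr g₁.2.1] with w hQw hne
  simp only [mom]
  rw [circleIntegral.integral_congr hr.le (g := fun ζ => Q (ζ, w) * ζ ^ k) fun ζ hζ => by
    simp only; field_simp [hne ζ hζ]]
  have hd : ∀ ζ ∈ closedBall (0 : ℂ) (min r₁ r₂), DifferentiableAt ℂ (fun ζ => Q (ζ, w) * ζ ^ k) ζ :=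
    fun ζ hζ => ((hQw ζ hζ).self_of_nhds.comp ζ (f := fun ζ : ℂ => (ζ, w)) (by fun_prop)).mul (by fun_prop)
  exact circleIntegral_eq_zero_of_differentiable_on_off_countable hr.le Set.countable_empty
    (fun ζ hζ => (hd ζ hζ).continuousAt.continuousWithinAt)
    fun ζ hζ => hd ζ (ball_subset_closedBall hζ.1)

/-- Germs with vanishing moments are multiples of `f`. -/
theorem dvd_of_momMap_eq_zero (g : Hol (ℂ × W)) (h : ∀ k < S.m, S.momMap g k = 0) : S.fGerm ∣ g := by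
  obtain ⟨G, hG, rfl⟩ := exists_mk g
  obtain ⟨r, hr⟩ := S.exists_good hG
  have h0 : ∀ k < S.m, ∀ᶠ w in 𝓝 (0 : W), S.mom G r k w = 0 := fun k hk => by
    have := h k hk
    rwa [S.momMap_mk, S.momGerm_eq hG hr, mk_eq_zero] at this
  have hall : ∀ᶠ w in 𝓝 (0 : W), w ∈ ball (0 : W) S.ρ ∧
      (∀ ζ ∈ closedBall (0 : ℂ) r, ∀ᶠ p in 𝓝 (ζ, w), DifferentiableAt ℂ G p) ∧
      (∀ ζ ∈ sphere (0 : ℂ) r, S.f (ζ, w) ≠ 0) := by
    filter_upwards [ball_mem_nhds (0 : W) S.ρpos, hr.2.2, S.eventually_ne_sphere hr.1 hr.2.1] with w a b c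
    exact ⟨a, b, c⟩
  let F : (ℂ × W) × ℂ → ℂ := fun q => G (q.2, q.1.2) / S.f (q.2, q.1.2) / (q.2 - q.1.1)
  let Q : ℂ × W → ℂ := fun p => (2 * Real.pi * I : ℂ)⁻¹ * ∮ ζ in C(0, r), F (p, ζ)
  have hnear : ∀ᶠ p in 𝓝 (0 : ℂ × W), p.1 ∈ ball (0 : ℂ) r :=
    continuous_fst.continuousAt.eventually_mem (ball_mem_nhds _ hr.1)
  have hQ : IsHolNear Q := by
    filter_upwards [hnear, (continuous_snd.continuousAt (x := (0 : ℂ × W))).eventually
      (p := fun w => w ∈ ball (0 : W) S.ρ ∧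
      (∀ ζ ∈ closedBall (0 : ℂ) r, ∀ᶠ p in 𝓝 (ζ, w), DifferentiableAt ℂ G p) ∧
      (∀ ζ ∈ sphere (0 : ℂ) r, S.f (ζ, w) ≠ 0)) hall] with p hp ⟨hw, hGw, hne⟩
    refine (differentiableAt_circleIntegral (F := F) hr.1.le fun ζ hζ => ?_).const_mul _
    have hsw : ContinuousAt (fun q : (ℂ × W) × ℂ => (q.2, q.1.2)) (p, ζ) := by fun_prop
    have hne' : ζ - p.1 ≠ 0 := sub_ne_zero.mpr fun e => (mem_ball_zero_iff.mp hp).ne
      (e ▸ mem_sphere_zero_iff_norm.mp hζ)
    filter_upwards [hsw.eventually (hGw ζ (sphere_subset_closedBall hζ)),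
      hsw.eventually (S.eventually_diff hr.2.1 hw (sphere_subset_closedBall hζ)),
      hsw.eventually ((S.diff _ (S.mem_ball_of hr.2.1 hw (sphere_subset_closedBall hζ))).continuousAt.eventually_ne
        (hne ζ hζ)),
      (by fun_prop : ContinuousAt (fun q : (ℂ × W) × ℂ => q.2 - q.1.1) (p, ζ)).eventually_ne hne']
      with q e1 e2 e3 e4
    have d1 : DifferentiableAt ℂ (fun q : (ℂ × W) × ℂ => G (q.2, q.1.2)) q :=
      e1.comp q (f := fun q : (ℂ × W) × ℂ => (q.2, q.1.2)) (by fun_prop)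
    have d2 : DifferentiableAt ℂ (fun q : (ℂ × W) × ℂ => S.f (q.2, q.1.2)) q :=
      e2.comp q (f := fun q : (ℂ × W) × ℂ => (q.2, q.1.2)) (by fun_prop)
    simp only [F, div_eq_mul_inv]
    exact (d1.mul (d2.inv e3)).mul (DifferentiableAt.inv (by fun_prop) e4)
  refine ⟨AnGerm.mk Q hQ, ?_⟩
  rw [fGerm, mk_mul, mk_eq_mk]
  have hall' := hall.and (((Set.finite_Iio S.m).eventually_all.mpr fun k hk => h0 k hk).and
    (S.eventually_small hr.1 hr.2.1))
  filter_upwards [hnear, (continuous_snd.continuousAt (x := (0 : ℂ × W))).eventually hall'] with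
    ⟨t, w⟩ ht ⟨⟨hw, hGw, hne⟩, hmom, hsmall⟩
  simp only at ht hw hGw hne hmom hsmall ⊢
  have hsub : ball (0 : ℂ) S.ρ ⊇ closedBall (0 : ℂ) r := closedBall_subset_ball hr.2.1
  have hfd : DifferentiableOn ℂ (fun ζ => S.f (ζ, w)) (ball 0 S.ρ) := fun ζ hζ =>
    ((S.diff (ζ, w) (by
      simp only [mem_ball_zero_iff] at hζ hw ⊢
      rw [Prod.norm_def]; exact max_lt hζ hw)).comp ζ (f := fun ζ : ℂ => (ζ, w)) (by fun_prop)).differentiableWithinAt
  have hGd : ∀ ζ ∈ closedBall (0 : ℂ) r, DifferentiableAt ℂ (fun ζ => G (ζ, w)) ζ := fun ζ hζ =>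
    (hGw ζ hζ).self_of_nhds.comp ζ (f := fun ζ : ℂ => (ζ, w)) (by fun_prop)
  have hgc : ContinuousOn (fun ζ => G (ζ, w) / S.f (ζ, w)) (sphere 0 r) := fun ζ hζ =>
    ((hGd ζ (sphere_subset_closedBall hζ)).continuousAt.div
      (hfd.continuousOn.continuousAt (isOpen_ball.mem_nhds (hsub (sphere_subset_closedBall hζ))))
      (hne ζ hζ)).continuousWithinAt
  have hts : ∀ ζ ∈ sphere (0 : ℂ) r, ζ ≠ t := fun ζ hζ e => (mem_ball_zero_iff.mp ht).ne
    (e ▸ mem_sphere_zero_iff_norm.mp hζ)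
  have hvan : (∮ ζ in C(0, r), G (ζ, w) / S.f (ζ, w) * dslope (fun ζ => S.f (ζ, w)) t ζ) = 0 := by
    refine circleIntegral_mul_eq_zero hr.1 hr.2.1 S.m (fun ζ => G (ζ, w) / S.f (ζ, w))
      (fun ζ => S.f (ζ, w)) S.u hgc hfd S.udiff S.une hsmall (fun q hq => ?_) (fun k hk => ?_) _
      ((Complex.differentiableOn_dslope (isOpen_ball.mem_nhds (hsub (ball_subset_closedBall ht)))).mpr hfd)
    · rw [circleIntegral.integral_congr hr.1.le (g := fun ζ => G (ζ, w) * q ζ) fun ζ hζ => by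
        simp only; field_simp [hne ζ hζ]]
      have hd : ∀ ζ ∈ closedBall (0 : ℂ) r, DifferentiableAt ℂ (fun ζ => G (ζ, w) * q ζ) ζ :=
        fun ζ hζ => (hGd ζ hζ).mul (hq.differentiableAt (isOpen_ball.mem_nhds (hsub hζ)))
      exact circleIntegral_eq_zero_of_differentiable_on_off_countable hr.1.le Set.countable_empty
        (fun ζ hζ => (hd ζ hζ).continuousAt.continuousWithinAt)
        fun ζ hζ => hd ζ (ball_subset_closedBall hζ.1)
    · rw [circleIntegral.integral_congr hr.1.le (g := fun ζ => G (ζ, w) * ζ ^ k / S.f (ζ, w))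
        fun ζ _ => by simp only; ring]
      exact hmom k hk
  have hcau : ((2 * Real.pi * I : ℂ)⁻¹ • ∮ ζ in C(0, r), (ζ - t)⁻¹ • G (ζ, w)) = G (t, w) := by
    refine (DifferentiableOn.diffContOnCl ?_).two_pi_i_inv_smul_circleIntegral_sub_inv_smul
      (f := fun ζ => G (ζ, w)) ht
    rw [closure_ball _ hr.1.ne']
    exact fun ζ hζ => (hGd ζ hζ).differentiableWithinAt
  have hF : ∀ ζ ∈ sphere (0 : ℂ) r,
      G (ζ, w) / S.f (ζ, w) * dslope (fun ζ => S.f (ζ, w)) t ζ =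
        (ζ - t)⁻¹ • G (ζ, w) - S.f (t, w) * F ((t, w), ζ) := by
    intro ζ hζ
    rw [dslope_of_ne _ (hts ζ hζ), slope_def_field, smul_eq_mul]
    have := sub_ne_zero.mpr (hts ζ hζ)
    have := hne ζ hζ
    simp only [F]
    field_simp
  rw [circleIntegral.integral_congr hr.1.le hF] at hvan
  have hi1 : CircleIntegrable (fun ζ => (ζ - t)⁻¹ • G (ζ, w)) 0 r :=
    ContinuousOn.circleIntegrable hr.1.le fun ζ hζ =>
      (((continuousAt_id.sub continuousAt_const).inv₀ (sub_ne_zero.mpr (hts ζ hζ))).smul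
        (hGd ζ (sphere_subset_closedBall hζ)).continuousAt).continuousWithinAt
  have hi2 : CircleIntegrable (fun ζ => S.f (t, w) * F ((t, w), ζ)) 0 r :=
    ContinuousOn.circleIntegrable hr.1.le (continuousOn_const.mul (hgc.div
      (by fun_prop) fun ζ hζ => sub_ne_zero.mpr (hts ζ hζ)))
  rw [circleIntegral.integral_sub hi1 hi2, circleIntegral.integral_const_mul, sub_eq_zero] at hvan
  rw [← hcau, smul_eq_mul, hvan]
  simp only [Q]
  ring

/-- Ideals containing `f` are finitely generated. -/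
theorem fg_of_mem [IsNoetherianRing (Hol W)] (I : Ideal (Hol (ℂ × W))) (hI : S.fGerm ∈ I) : I.FG := by
  classical
  let _ : Algebra (Hol W) (Hol (ℂ × W)) := (pull (W := W)).toAlgebra
  let Φ : Hol (ℂ × W) →ₗ[Hol W] (Fin S.m → Hol W) :=
    { toFun := fun g k => S.momMap g k
      map_add' := fun a b => funext fun k => S.momMap_add a b k
      map_smul' := fun a b => funext fun k => by
        rw [Algebra.smul_def, RingHom.algebraMap_toAlgebra]; exact S.momMap_pull_mul a b k }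
  obtain ⟨T, hT⟩ := IsNoetherian.noetherian ((I.restrictScalars (Hol W)).map Φ)
  have hpre : ∀ y ∈ T, ∃ x ∈ I, Φ x = y := fun y hy => by
    have : y ∈ (I.restrictScalars (Hol W)).map Φ := hT ▸ Submodule.subset_span hy
    obtain ⟨x, hx, rfl⟩ := this
    exact ⟨x, hx, rfl⟩
  choose x hxI hxy using hpre
  let U : Finset (Hol (ℂ × W)) := insert S.fGerm (T.attach.image fun y => x y.1 y.2)
  refine ⟨U, le_antisymm (Ideal.span_le.mpr ?_) fun g hg => ?_⟩
  · intro z hz
    simp only [U, Finset.coe_insert, Set.mem_insert_iff, Finset.coe_image, Set.mem_image] at hz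
    rcases hz with rfl | ⟨y, -, rfl⟩
    · exact hI
    · exact hxI _ _
  · have hmem : Φ g ∈ (Submodule.span (Hol W) (Set.range fun y : T => x y.1 y.2)).map Φ := by
      rw [Submodule.map_span, ← Set.range_comp]
      refine Submodule.span_mono ?_ (hT.symm ▸ Submodule.mem_map_of_mem (f := Φ) hg :
        Φ g ∈ Submodule.span (Hol W) (T : Set (Fin S.m → Hol W)))
      exact fun y hy => ⟨⟨y, hy⟩, hxy y hy⟩
    obtain ⟨z, hz, hzg⟩ := hmem
    have hzU : z ∈ Ideal.span (U : Set (Hol (ℂ × W))) := by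
      have hle : Submodule.span (Hol W) (Set.range fun y : T => x y.1 y.2) ≤
          (Ideal.span (U : Set (Hol (ℂ × W)))).restrictScalars (Hol W) := by
        refine Submodule.span_le.mpr ?_
        rintro _ ⟨y, rfl⟩
        exact Ideal.subset_span (by simp [U])
      exact hle hz
    obtain ⟨q, hq⟩ := S.dvd_of_momMap_eq_zero (g - z) fun k hk => by
      have e : Φ (g - z) = 0 := by rw [map_sub, hzg, sub_self]
      exact congrFun e ⟨k, hk⟩
    rw [show g = z + S.fGerm * q by rw [← hq]; ring]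
    exact add_mem hzU (Ideal.mul_mem_right _ _ (Ideal.subset_span (by simp [U])))

end Slice

theorem isNoetherianRing_hol : ∀ n : ℕ, IsNoetherianRing (Hol (Fin n → ℂ)) := by
  intro n
  induction n with
  | zero =>
    refine isNoetherianRing_of_surjective _ _ (polyHom 0).toRingHom fun g => ?_
    obtain ⟨p, hp⟩ := exists_poly_sub_mem g 1
    have hb : MvPolynomial.idealOfVars (Fin 0) ℂ = ⊥ := by
      rw [MvPolynomial.idealOfVars, Set.range_eq_empty, Ideal.span_empty]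
    rw [pow_one, maximalIdeal_eq_map, hb, Ideal.map_bot, Ideal.mem_bot, sub_eq_zero] at hp
    exact ⟨p, hp.symm⟩
  | succ n ih =>
    refine ⟨fun I => ?_⟩
    rcases eq_or_ne I ⊥ with rfl | hne
    · exact Submodule.fg_bot
    obtain ⟨g, hgI, hg0⟩ := Submodule.exists_mem_ne_zero_of_ne_bot hne
    obtain ⟨f, hf, rfl⟩ := exists_mk g
    obtain ⟨ε, hε, hb⟩ := Metric.eventually_nhds_iff_ball.mp hf
    obtain ⟨z, hz, hfz⟩ : ∃ z ∈ ball (0 : Fin (n + 1) → ℂ) ε, f z ≠ 0 := by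
      by_contra hcon
      push Not at hcon
      exact hg0 (mk_eq_zero.mpr (Filter.eventually_of_mem (ball_mem_nhds _ hε) hcon))
    -- a line on which `f` does not vanish identically
    obtain ⟨v, hv, hline⟩ : ∃ v : Fin (n + 1) → ℂ, v ≠ 0 ∧ ¬ ∀ᶠ t in 𝓝 (0 : ℂ), f (t • v) = 0 := by
      rcases eq_or_ne z 0 with rfl | hz0
      · exact ⟨fun _ => 1, fun e => one_ne_zero (congrFun e 0),
          fun h => hfz (by simpa using h.self_of_nhds)⟩
      refine ⟨z, hz0, fun h => hfz ?_⟩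
      let δ := ε / ‖z‖
      have hn : 0 < ‖z‖ := norm_pos_iff.mpr hz0
      have hd : DifferentiableOn ℂ (fun t : ℂ => f (t • z)) (ball 0 δ) := fun t ht => by
        refine ((hb _ ?_).comp t (f := fun t : ℂ => t • z) (by fun_prop)).differentiableWithinAt
        rw [mem_ball_zero_iff] at ht ⊢
        rw [norm_smul]; exact (lt_div_iff₀ hn).mp ht
      have h1 : (1 : ℂ) ∈ ball (0 : ℂ) δ := by
        rw [mem_ball_zero_iff, norm_one, lt_div_iff₀ hn, one_mul]; exact mem_ball_zero_iff.mp hz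
      have := (hd.analyticOnNhd isOpen_ball).eqOn_zero_of_preconnected_of_eventuallyEq_zero
        (convex_ball (0 : ℂ) δ).isPreconnected (mem_ball_self (by positivity)) h h1
      simpa using this
    obtain ⟨j, hj⟩ : ∃ j, v j ≠ 0 := Function.ne_iff.mp hv
    let L₀ : (ℂ × (Fin n → ℂ)) →ₗ[ℂ] (Fin (n + 1) → ℂ) :=
      { toFun := fun p i => p.1 * v i + Fin.insertNth (α := fun _ => ℂ) j (0 : ℂ) p.2 i
        map_add' := fun p q => funext fun i => by
          cases i using Fin.succAboveCases j with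
          | x => simp; ring
          | p i => simp; ring
        map_smul' := fun c p => funext fun i => by
          cases i using Fin.succAboveCases j with
          | x => simp; ring
          | p i => simp; ring }
    have hinj : Function.Injective L₀ := by
      rw [← LinearMap.ker_eq_bot, LinearMap.ker_eq_bot']
      intro p hp
      have h1 : p.1 = 0 := by
        have := congrFun hp j
        simpa [L₀, hj] using this
      refine Prod.ext h1 (funext fun i => ?_)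
      have := congrFun hp (j.succAbove i)
      simpa [L₀, h1] using this
    have hsurj : Function.Surjective L₀ :=
      (LinearMap.injective_iff_surjective_of_finrank_eq_finrank (by simp [Module.finrank_prod]; omega)).mp hinj
    let L : (ℂ × (Fin n → ℂ)) ≃L[ℂ] (Fin (n + 1) → ℂ) :=
      (LinearEquiv.ofBijective L₀ ⟨hinj, hsurj⟩).toContinuousLinearEquiv
    have hL : ∀ t : ℂ, L (t, 0) = t • v := fun t => funext fun i => by
      change t * v i + Fin.insertNth (α := fun _ => ℂ) j (0 : ℂ) (0 : Fin n → ℂ) i = _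
      cases i using Fin.succAboveCases j <;> simp
    have hfL : IsHolNear fun p => f (L p) :=
      ((L.continuous.continuousAt (x := 0)).eventually (p := fun q => DifferentiableAt ℂ f q)
        (by rw [map_zero]; exact hf)).mono fun p hp => hp.comp p L.differentiableAt
    obtain ⟨S, hS⟩ := exists_slice hfL (by simpa [hL] using hline)
    let e := compEquiv L
    have hfg : (Ideal.map e.toRingHom I).FG := by
      have : IsNoetherianRing (Hol (Fin n → ℂ)) := ih
      refine S.fg_of_mem _ ?_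
      convert Ideal.mem_map_of_mem e.toRingHom hgI using 1
      exact (mk_eq_mk (hg := hfL)).mpr (Eventually.of_forall fun p => congrFun hS p : S.f =ᶠ[𝓝 0] fun p => f (L p))
    obtain ⟨T, hT⟩ := hfg
    classical
    refine ⟨T.image e.symm.toRingHom, ?_⟩
    change Ideal.span _ = I
    rw [Finset.coe_image, ← Ideal.map_span]
    rw [hT, Ideal.map_map, RingEquiv.toRingHom_eq_coe,
      RingEquiv.toRingHom_eq_coe, RingEquiv.symm_comp, Ideal.map_id]

instance (n : ℕ) : IsNoetherianRing (Hol (Fin n → ℂ)) := isNoetherianRing_hol n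

end

end Groth.Agent.AnGerm
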