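import Groth.Agent.AnLib.Hol
import Groth.Agent.AnGerm.Noether
import Groth.Agent.AnGerm.Key
import Groth.Agent.AnGerm.Cpl

/-!
Germs of holomorphic functions at a point of `X(ℂ)` as germs at the origin of `ℂⁿ`.
-/

set_option autoImplicit false
set_option backward.isDefEq.respectTransparency false

open CategoryTheory AlgebraicGeometry TopologicalSpace Topology Filter Opposite
open scoped Groth.Agent.AnLib

namespace Groth.Agent.AnGerm

noncomputable section

open Groth.Agent.AnLib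

variable {X : Scheme.{0}} [X.Over An.SC]

/-- The analytic local ring. -/
abbrev St (x : An.Pts X) : Type := ((An.anSpace X).presheaf.stalk x : CommRingCat.{0})

/-- The comparison map on local rings. -/
abbrev cmp (x : An.Pts X) : (X.presheaf.stalk x.pt) →+* St x :=
  (PresheafedSpace.Hom.stalkMap (An.anToScheme X) x).hom

/-- The germ of a function which is holomorphic on an open set. -/
def germ (x : An.Pts X) (O : Opens (An.top X)) (hx : x ∈ O) (f : An.holSub O) : St x :=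
  (An.anSpace X).presheaf.germ O x hx f

lemma exists_germ (x : An.Pts X) (b : St x) :
    ∃ (O : Opens (An.top X)) (hx : x ∈ O) (f : An.holSub O), germ x O hx f = b :=
  TopCat.Presheaf.exists_germ_eq _ b

lemma germ_eq {x : An.Pts X} {O O' : Opens (An.top X)} {hx : x ∈ O} {hx' : x ∈ O'}
    {f : An.holSub O} {f' : An.holSub O'}
    (h : ∀ᶠ y in 𝓝 x, ∀ (hy : y ∈ O) (hy' : y ∈ O'), f.1 ⟨y, hy⟩ = f'.1 ⟨y, hy'⟩) :
    germ x O hx f = germ x O' hx' f' := by
  obtain ⟨N, hN, hNo, hxN⟩ := eventually_nhds_iff.mp h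
  refine (An.anSpace X).presheaf.germ_ext ((O ⊓ O') ⊓ ⟨N, hNo⟩) ⟨⟨hx, hx'⟩, hxN⟩
    (homOfLE fun y hy => hy.1.1) (homOfLE fun y hy => hy.1.2) ?_
  exact Subtype.ext (funext fun y => hN y.1 y.2.2 y.2.1.1 y.2.1.2)

lemma germ_eq_iff {x : An.Pts X} {O O' : Opens (An.top X)} {hx : x ∈ O} {hx' : x ∈ O'}
    {f : An.holSub O} {f' : An.holSub O'} :
    germ x O hx f = germ x O' hx' f' ↔
      ∀ᶠ y in 𝓝 x, ∀ (hy : y ∈ O) (hy' : y ∈ O'), f.1 ⟨y, hy⟩ = f'.1 ⟨y, hy'⟩ := by
  refine ⟨fun h => ?_, germ_eq⟩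
  obtain ⟨W, hW, i, j, e⟩ := (An.anSpace X).presheaf.germ_eq x hx hx' f f' h
  filter_upwards [W.2.mem_nhds hW] with y hy hy1 hy2
  exact congrFun (congrArg Subtype.val e) ⟨y, hy⟩

lemma germ_add (x : An.Pts X) (O : Opens (An.top X)) (hx : x ∈ O) (f g : An.holSub O) :
    germ x O hx (f + g) = germ x O hx f + germ x O hx g :=
  map_add ((An.anSpace X).presheaf.germ O x hx).hom f g

lemma germ_mul (x : An.Pts X) (O : Opens (An.top X)) (hx : x ∈ O) (f g : An.holSub O) :
    germ x O hx (f * g) = germ x O hx f * germ x O hx g :=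
  map_mul ((An.anSpace X).presheaf.germ O x hx).hom f g

lemma germ_one (x : An.Pts X) (O : Opens (An.top X)) (hx : x ∈ O) : germ x O hx 1 = 1 :=
  map_one ((An.anSpace X).presheaf.germ O x hx).hom

lemma germ_zero (x : An.Pts X) (O : Opens (An.top X)) (hx : x ∈ O) : germ x O hx 0 = 0 :=
  map_zero ((An.anSpace X).presheaf.germ O x hx).hom

instance nontrivial_St (x : An.Pts X) : Nontrivial (St x) := by
  refine ⟨1, 0, fun h => ?_⟩
  rw [← germ_one x ⊤ trivial, ← germ_zero x ⊤ trivial, germ_eq_iff] at h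
  exact one_ne_zero (h.self_of_nhds trivial trivial : (1 : ℂ) = 0)

/-- The open set of points over an open. -/
def opensPt (U : X.Opens) : Opens (An.top X) := (An.baseF X).obj U

lemma mem_opensPt {U : X.Opens} {y : An.Pts X} : y ∈ opensPt U ↔ y.pt ∈ U := Iff.rfl

lemma cmp_germ (x : An.Pts X) (U : X.Opens) (hx : x.pt ∈ U) (a : Γ(X, U)) :
    cmp x (X.presheaf.germ U x.pt hx a) = germ x (opensPt U) hx (An.toHolApp U a) := by
  exact ConcreteCategory.congr_hom
    (PresheafedSpace.stalkMap_germ (An.anToScheme X) U x hx) a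

/-- Affine coordinates centred at a point. -/
structure Chart (x : An.Pts X) where
  U : X.Opens
  hU : IsAffineOpen U
  hx : x.pt ∈ U
  n : ℕ
  s : Fin n → Γ(X, U)
  surj : Function.Surjective (MvPolynomial.aeval (R := ℂ) s)
  zero : ∀ i, toHom x U hx (s i) = 0

theorem nonempty_chart [LocallyOfFiniteType (X ↘ An.SC)] (x : An.Pts X) : Nonempty (Chart x) := by
  obtain ⟨U, hU, hx, -⟩ := exists_isAffineOpen_mem_and_subset (x := x.pt) (U := ⊤) trivial
  have := finiteType_sec (X := X) hU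
  obtain ⟨n, s, hs⟩ := exists_gens (A := Γ(X, U))
  refine ⟨⟨U, hU, hx, n, fun i => s i - algebraMap ℂ _ (toHom x U hx (s i)), fun a => ?_, fun i => ?_⟩⟩
  · obtain ⟨p, rfl⟩ := hs a
    refine ⟨MvPolynomial.aeval (fun i => MvPolynomial.X i + MvPolynomial.C (toHom x U hx (s i))) p, ?_⟩
    rw [← AlgHom.comp_apply, MvPolynomial.comp_aeval]
    congr 2
    funext i
    simp
  · simp

namespace Chart

variable {x : An.Pts X} (c : Chart x)

/-- The coordinates. -/
def coord (y : An.Pts X) : Fin c.n → ℂ := fun i => evD y c.U (c.s i)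

lemma coord_of_mem {y : An.Pts X} (hy : y.pt ∈ c.U) : c.coord y = fun i => toHom y c.U hy (c.s i) :=
  funext fun _ => evD_of_mem hy _

lemma coord_self : c.coord x = 0 := by
  rw [c.coord_of_mem c.hx]; exact funext c.zero

lemma continuousAt_coord {y : An.Pts X} (hy : y.pt ∈ c.U) : ContinuousAt c.coord y := by
  refine ContinuousOn.continuousAt ?_ ((An.Pts.isOpen_preimage_pt c.U).mem_nhds hy)
  rw [continuousOn_iff_continuous_domRestrict]
  refine continuous_pi fun i => ?_
  refine ((AnLib.continuous_eval (c.s i)).comp (continuous_toHom c.U)).congr fun z => ?_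
  exact (evD_of_mem z.2 _).symm

lemma tendsto_coord : Tendsto c.coord (𝓝 x) (𝓝 0) := by
  simpa [c.coord_self] using (c.continuousAt_coord c.hx).tendsto

/-- Points of `U(ℂ)` whose coordinates lie in an open set. -/
def dom (V : Set (Fin c.n → ℂ)) (hV : IsOpen V) : Opens (An.top X) :=
  ⟨An.Pts.pt ⁻¹' (c.U : Set X) ∩ c.coord ⁻¹' V,
    ContinuousOn.isOpen_inter_preimage
      (fun y hy => (c.continuousAt_coord hy).continuousWithinAt) (An.Pts.isOpen_preimage_pt c.U) hV⟩

lemma mem_dom {V : Set (Fin c.n → ℂ)} {hV : IsOpen V} {y : An.Pts X} :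
    y ∈ c.dom V hV ↔ y.pt ∈ c.U ∧ c.coord y ∈ V := Iff.rfl

lemma ev_eq_coord {y : An.Pts X} (h : y.pt ∈ c.U) :
    (fun i => An.Pts.ev y c.U h (c.s i)) = c.coord y := (c.coord_of_mem h).symm

lemma isChartFun_pullFun (V : Set (Fin c.n → ℂ)) (hV : IsOpen V) (G : (Fin c.n → ℂ) → ℂ)
    (hG : DifferentiableOn ℂ G V) : An.IsChartFun (c.dom V hV) (fun y => G (c.coord y.1)) :=
  ⟨c.U, fun y => y.2.1, c.n, c.s, V, G, hV, hG, fun y =>
    ⟨(congrArg (fun z => z ∈ V) (c.ev_eq_coord (y := y.1) y.2.1)).mpr y.2.2,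
      congrArg G (c.ev_eq_coord (y := y.1) y.2.1).symm⟩⟩

/-- A function of the coordinates. -/
def pullFun (V : Set (Fin c.n → ℂ)) (hV : IsOpen V) (G : (Fin c.n → ℂ) → ℂ) (hG : DifferentiableOn ℂ G V) :
    An.holSub (c.dom V hV) :=
  ⟨fun y => G (c.coord y.1),
    An.holPred_of_chartAlg (Algebra.subset_adjoin (c.isChartFun_pullFun V hV G hG))⟩

lemma exists_open (g : (Fin c.n → ℂ) → ℂ) (hg : IsHolNear g) :
    ∃ V : Set (Fin c.n → ℂ), IsOpen V ∧ 0 ∈ V ∧ DifferentiableOn ℂ g V := by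
  obtain ⟨V, hV, hVo, h0⟩ := eventually_nhds_iff.mp hg
  exact ⟨V, hVo, h0, fun z hz => (hV z hz).differentiableWithinAt⟩

/-- Pullback of germs of functions of the coordinates, on representatives. -/
def pullAux (g : Hol (Fin c.n → ℂ)) : St x :=
  let h := c.exists_open (exists_mk g).choose (exists_mk g).choose_spec.choose
  germ x (c.dom h.choose h.choose_spec.1) ⟨c.hx, by
    show c.coord x ∈ h.choose
    rw [c.coord_self]; exact h.choose_spec.2.1⟩
    (c.pullFun _ h.choose_spec.1 _ h.choose_spec.2.2)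

lemma pullAux_mk {V : Set (Fin c.n → ℂ)} (hV : IsOpen V) (h0 : (0 : Fin c.n → ℂ) ∈ V)
    {G : (Fin c.n → ℂ) → ℂ} (hG : DifferentiableOn ℂ G V) (hG' : IsHolNear G) :
    c.pullAux (AnGerm.mk G hG') = germ x (c.dom V hV) ⟨c.hx, by
      show c.coord x ∈ V
      rw [c.coord_self]; exact h0⟩ (c.pullFun V hV G hG) := by
  refine germ_eq ?_
  have e : (exists_mk (AnGerm.mk G hG')).choose =ᶠ[𝓝 0] G :=
    mk_eq_mk.mp (exists_mk (AnGerm.mk G hG')).choose_spec.choose_spec
  exact (c.tendsto_coord.eventually e).mono fun y hy _ _ => hy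

lemma mem_dom_self {V : Set (Fin c.n → ℂ)} (hV : IsOpen V) (h0 : (0 : Fin c.n → ℂ) ∈ V) :
    x ∈ c.dom V hV := ⟨c.hx, by show c.coord x ∈ V; rw [c.coord_self]; exact h0⟩

/-- Pullback of germs of functions of the coordinates. -/
def pull : Hol (Fin c.n → ℂ) →+* St x where
  toFun := c.pullAux
  map_one' := by
    rw [show (1 : Hol (Fin c.n → ℂ)) = AnGerm.mk _ (isHolNear_const 1) from rfl,
      c.pullAux_mk isOpen_univ trivial (differentiableOn_const 1)]
    exact germ_one _ _ _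
  map_zero' := by
    rw [show (0 : Hol (Fin c.n → ℂ)) = AnGerm.mk _ (isHolNear_const 0) from rfl,
      c.pullAux_mk isOpen_univ trivial (differentiableOn_const 0)]
    exact germ_zero _ _ _
  map_add' a b := by
    obtain ⟨f, hf, rfl⟩ := exists_mk a
    obtain ⟨g, hg, rfl⟩ := exists_mk b
    obtain ⟨V, hV, h0, hfV⟩ := c.exists_open f hf
    obtain ⟨V', hV', h0', hgV⟩ := c.exists_open g hg
    have hf' := hfV.mono (Set.inter_subset_left (t := V'))
    have hg' := hgV.mono (Set.inter_subset_right (s := V))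
    rw [mk_add, c.pullAux_mk (hV.inter hV') ⟨h0, h0'⟩ (hf'.fun_add hg'), c.pullAux_mk (hV.inter hV') ⟨h0, h0'⟩ hf',
      c.pullAux_mk (hV.inter hV') ⟨h0, h0'⟩ hg']
    exact germ_add x (c.dom _ (hV.inter hV')) (c.mem_dom_self _ ⟨h0, h0'⟩) (c.pullFun _ _ _ hf')
      (c.pullFun _ _ _ hg')
  map_mul' a b := by
    obtain ⟨f, hf, rfl⟩ := exists_mk a
    obtain ⟨g, hg, rfl⟩ := exists_mk b
    obtain ⟨V, hV, h0, hfV⟩ := c.exists_open f hf
    obtain ⟨V', hV', h0', hgV⟩ := c.exists_open g hg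
    have hf' := hfV.mono (Set.inter_subset_left (t := V'))
    have hg' := hgV.mono (Set.inter_subset_right (s := V))
    rw [mk_mul, c.pullAux_mk (hV.inter hV') ⟨h0, h0'⟩ (hf'.fun_mul hg'), c.pullAux_mk (hV.inter hV') ⟨h0, h0'⟩ hf',
      c.pullAux_mk (hV.inter hV') ⟨h0, h0'⟩ hg']
    exact germ_mul x (c.dom _ (hV.inter hV')) (c.mem_dom_self _ ⟨h0, h0'⟩) (c.pullFun _ _ _ hf')
      (c.pullFun _ _ _ hg')

lemma pull_mk {V : Set (Fin c.n → ℂ)} (hV : IsOpen V) (h0 : (0 : Fin c.n → ℂ) ∈ V)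
    {G : (Fin c.n → ℂ) → ℂ} (hG : DifferentiableOn ℂ G V) (hG' : IsHolNear G) :
    c.pull (AnGerm.mk G hG') = germ x (c.dom V hV) (c.mem_dom_self hV h0) (c.pullFun V hV G hG) :=
  c.pullAux_mk hV h0 hG hG'

/-- A germ killed by `pull` vanishes on the points near `x`. -/
lemma eventually_zero {G : (Fin c.n → ℂ) → ℂ} {hG : IsHolNear G} (h : c.pull (AnGerm.mk G hG) = 0) :
    ∀ᶠ y in 𝓝 x, G (c.coord y) = 0 := by
  obtain ⟨V, hV, h0, hGV⟩ := c.exists_open G hG
  rw [c.pull_mk hV h0 hGV, ← germ_zero x (c.dom V hV) (c.mem_dom_self hV h0), germ_eq_iff] at h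
  filter_upwards [h, (c.dom V hV).2.mem_nhds (c.mem_dom_self hV h0)] with y hy hm
  exact hy hm hm

/-- Polynomials go to the regular functions they define. -/
lemma pull_polyHom (p : MvPolynomial (Fin c.n) ℂ) :
    c.pull (polyHom c.n p) = cmp x (X.presheaf.germ c.U x.pt c.hx (MvPolynomial.aeval c.s p)) := by
  rw [polyHom_apply, c.pull_mk isOpen_univ trivial (fun z _ => (differentiable_mvEval p z).differentiableWithinAt),
    cmp_germ]
  refine germ_eq (Eventually.of_forall fun y _ hy => ?_)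
  change MvPolynomial.eval (c.coord y) p = toHom y c.U hy (MvPolynomial.aeval c.s p)
  rw [apply_aeval, c.coord_of_mem hy]

/-- Every germ is a function of the coordinates. -/
theorem pull_surjective : Function.Surjective c.pull := by
  intro b
  obtain ⟨O, hxO, ⟨f, hf⟩, rfl⟩ := exists_germ x b
  obtain ⟨O', hxO', i, hf'⟩ := hf ⟨x, hxO⟩
  change x ∈ O' at hxO'
  rw [show germ x O hxO ⟨f, hf⟩ = germ x O' hxO' ⟨fun y => f (i y), An.holPred_of_chartAlg hf'⟩ from
    germ_eq (Eventually.of_forall fun y _ _ => rfl)]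
  suffices H : ∀ (g : O' → ℂ) (hg : g ∈ An.chartAlg O'),
      ∃ a, c.pull a = germ x O' hxO' ⟨g, An.holPred_of_chartAlg hg⟩ from H _ hf'
  intro g hg
  induction hg using Algebra.adjoin_induction with
  | algebraMap r =>
    refine ⟨AnGerm.mk _ (isHolNear_const r), ?_⟩
    rw [c.pull_mk isOpen_univ trivial (differentiableOn_const r)]
    exact germ_eq (Eventually.of_forall fun y _ _ => rfl)
  | add u v hu hv hu' hv' =>
    obtain ⟨a, ha⟩ := hu'
    obtain ⟨b, hb⟩ := hv'
    exact ⟨a + b, by rw [map_add, ha, hb, ← germ_add]; rfl⟩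
  | mul u v hu hv hu' hv' =>
    obtain ⟨a, ha⟩ := hu'
    obtain ⟨b, hb⟩ := hv'
    exact ⟨a * b, by rw [map_mul, ha, hb, ← germ_mul]; rfl⟩
  | mem g hg =>
    obtain ⟨W, hW, m, t, V, G, hV, hG, hgt⟩ := hg
    obtain ⟨h, hle, hxh⟩ := c.hU.exists_basicOpen_le (V := W) ⟨x.pt, hW ⟨x, hxO'⟩⟩ c.hx
    have := c.hU.isLocalization_basicOpen h
    have hfrac : ∀ j, ∃ (P : MvPolynomial (Fin c.n) ℂ) (k : ℕ),
        (X.presheaf.map (homOfLE hle).op (t j)) * algebraMap Γ(X, c.U) Γ(X, X.basicOpen h) (h ^ k) =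
          algebraMap Γ(X, c.U) Γ(X, X.basicOpen h) (MvPolynomial.aeval c.s P) := by
      intro j
      obtain ⟨⟨a, ⟨_, k, rfl⟩⟩, ha⟩ :=
        IsLocalization.surj (Submonoid.powers h) (X.presheaf.map (homOfLE hle).op (t j))
      obtain ⟨P, rfl⟩ := c.surj a
      exact ⟨P, k, ha⟩
    choose P k hP using hfrac
    obtain ⟨Q, rfl⟩ := c.surj h
    let Z : (Fin c.n → ℂ) → (Fin m → ℂ) := fun z j =>
      MvPolynomial.eval z (P j) / MvPolynomial.eval z Q ^ k j
    have hQne : ∀ y : An.Pts X, y.pt ∈ X.basicOpen (MvPolynomial.aeval c.s Q) →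
        MvPolynomial.eval (c.coord y) Q ≠ 0 := by
      intro y hy
      have hyU : y.pt ∈ c.U := X.basicOpen_le _ hy
      have := (mem_basicOpen_iff y hyU _).mp hy
      rwa [← toHom_apply y c.U hyU, apply_aeval, ← c.coord_of_mem hyU] at this
    have hval : ∀ y : An.Pts X, ∀ hy : y.pt ∈ X.basicOpen (MvPolynomial.aeval c.s Q),
        (fun j => An.Pts.ev y W (hle hy) (t j)) = Z (c.coord y) := by
      intro y hy
      funext j
      have hyU : y.pt ∈ c.U := X.basicOpen_le _ hy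
      have eres : ∀ R, toHom y _ hy (algebraMap Γ(X, c.U) Γ(X, X.basicOpen (MvPolynomial.aeval c.s Q))
          (MvPolynomial.aeval c.s R)) = MvPolynomial.eval (c.coord y) R := fun R => by
        change toHom y _ hy (X.presheaf.map (homOfLE (X.basicOpen_le _)).op (MvPolynomial.aeval c.s R)) = _
        rw [toHom_apply, ev_res _ _ hy, ← toHom_apply, apply_aeval, c.coord_of_mem hyU]
      have h' := congr(toHom y _ hy $(hP j))
      rw [map_mul, map_pow, map_pow, eres, eres] at h'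
      rw [eq_div_iff (pow_ne_zero _ (hQne y hy)), ← ev_res y hle hy]
      exact h'
    have hopen : IsOpen {z : Fin c.n → ℂ | MvPolynomial.eval z Q ≠ 0} :=
      isOpen_ne_fun (MvPolynomial.continuous_eval Q) continuous_const
    have hZd : ∀ z ∈ {z : Fin c.n → ℂ | MvPolynomial.eval z Q ≠ 0}, DifferentiableAt ℂ Z z := fun z hz =>
      differentiableAt_pi.mpr fun j => by
        simp only [Z, div_eq_mul_inv]
        exact (differentiable_mvEval _ z).mul (((differentiable_mvEval Q z).pow _).inv (pow_ne_zero _ hz))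
    let V' : Set (Fin c.n → ℂ) := {z | MvPolynomial.eval z Q ≠ 0} ∩ Z ⁻¹' V
    have hV' : IsOpen V' :=
      (continuousOn_of_forall_continuousAt fun z hz => (hZd z hz).continuousAt).isOpen_inter_preimage hopen hV
    have h0 : (0 : Fin c.n → ℂ) ∈ V' := by
      refine ⟨by rw [← c.coord_self]; exact hQne x hxh, ?_⟩
      rw [Set.mem_preimage, ← c.coord_self, ← hval x hxh]
      exact (hgt ⟨x, hxO'⟩).1
    have hGZ : DifferentiableOn ℂ (fun z => G (Z z)) V' := fun z hz =>
      (((hG.differentiableAt (hV.mem_nhds hz.2)).comp z (hZd z hz.1))).differentiableWithinAt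
    refine ⟨AnGerm.mk (fun z => G (Z z)) ((hV'.eventually_mem h0).mono fun z hz =>
      hGZ.differentiableAt (hV'.mem_nhds hz)), ?_⟩
    rw [c.pull_mk hV' h0 hGZ]
    refine germ_eq ?_
    filter_upwards [(An.Pts.isOpen_preimage_pt (X.basicOpen (MvPolynomial.aeval c.s Q))).mem_nhds hxh]
      with y hy _ hyO
    rw [(hgt ⟨y, hyO⟩).2]
    change G (Z (c.coord y)) = _
    rw [← hval y hy]

end Chart

end

end Groth.Agent.AnGerm
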