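import Mathlib.Analysis.Complex.CauchyIntegral
import Mathlib.Analysis.Complex.Schwarz
import Mathlib.Analysis.Complex.RemovableSingularity
import Mathlib.Analysis.Complex.AbsMax
import Mathlib.Analysis.Calculus.ParametricIntervalIntegral
import Mathlib.Analysis.Calculus.FDeriv.Measurable
import Mathlib.MeasureTheory.Constructions.BorelSpace.ContinuousLinearMap

/-!
Circle integrals depending holomorphically on parameters, and the one variable core of the
division argument: a functional on holomorphic functions killing the multiples of a function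
which is close to `ζ ^ m * u` and killing `1, …, ζ ^ (m - 1)` vanishes.
-/

set_option autoImplicit false

open Filter Topology Metric MeasureTheory Complex Set

namespace Groth.Agent.AnGerm

noncomputable section

variable {E : Type*} [NormedAddCommGroup E] [NormedSpace ℂ E] [FiniteDimensional ℂ E]

/-- A circle integral of a holomorphic family is holomorphic in the parameter. -/
theorem differentiableAt_circleIntegral {F : E × ℂ → ℂ} {w₀ : E} {c : ℂ} {R : ℝ} (hR : 0 ≤ R)
    (hF : ∀ ζ ∈ sphere c R, ∀ᶠ p in 𝓝 (w₀, ζ), DifferentiableAt ℂ F p) :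
    DifferentiableAt ℂ (fun w => ∮ ζ in C(c, R), F (w, ζ)) w₀ := by
  borelize E
  haveI : ProperSpace E := FiniteDimensional.proper ℂ E
  obtain ⟨M, hM⟩ : ∃ M : ℝ, ∀ ζ ∈ sphere c R, ‖F (w₀, ζ)‖ ≤ M :=
    (isCompact_sphere c R).exists_bound_of_continuousOn fun ζ hζ =>
      ((hF ζ hζ).self_of_nhds.continuousAt.comp (continuous_const.prodMk continuous_id).continuousAt).continuousWithinAt
  have hloc : ∀ᶠ w in 𝓝 w₀, ∀ ζ ∈ sphere c R, DifferentiableAt ℂ F (w, ζ) ∧ ‖F (w, ζ)‖ ≤ M + 1 := by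
    refine IsCompact.eventually_forall_of_forall_eventually
      (P := fun w ζ => DifferentiableAt ℂ F (w, ζ) ∧ ‖F (w, ζ)‖ ≤ M + 1) (isCompact_sphere c R) fun ζ hζ => ?_
    refine (hF ζ hζ).and ?_
    exact ((hF ζ hζ).self_of_nhds.continuousAt.norm).eventually_le_const
      (lt_of_le_of_lt (hM ζ hζ) (lt_add_one M))
  obtain ⟨ε, hε, hball⟩ := Metric.eventually_nhds_iff_ball.mp hloc
  have hmem : ∀ θ : ℝ, circleMap c R θ ∈ sphere c R := circleMap_mem_sphere c hR
  set F' : E → ℝ → E →L[ℂ] ℂ := fun w θ =>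
    deriv (circleMap c R) θ • (fderiv ℂ F (w, circleMap c R θ)).comp (ContinuousLinearMap.inl ℂ E ℂ)
    with hF'
  have hder : ∀ w ∈ ball w₀ ε, ∀ θ : ℝ, HasFDerivAt
      (fun x => deriv (circleMap c R) θ • F (x, circleMap c R θ)) (F' w θ) w := by
    intro w hw θ
    have h := (((hball w hw _ (hmem θ)).1.hasFDerivAt).comp w
      (hasFDerivAt_prodMk_left (𝕜 := ℂ) w (circleMap c R θ)))
    exact h.const_smul (deriv (circleMap c R) θ)
  have hbd : ∀ w ∈ ball w₀ (ε / 2), ∀ θ : ℝ, ‖F' w θ‖ ≤ |R| * (2 * (M + 1) / (ε / 2)) := by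
    intro w hw θ
    have hsub : ball w (ε / 2) ⊆ ball w₀ ε := ball_subset_ball' (by linarith [mem_ball.mp hw])
    have h1 : ∀ x ∈ ball w (ε / 2), HasFDerivAt (fun x => F (x, circleMap c R θ))
        ((fderiv ℂ F (x, circleMap c R θ)).comp (ContinuousLinearMap.inl ℂ E ℂ)) x := fun x hx =>
      ((hball x (hsub hx) _ (hmem θ)).1.hasFDerivAt).comp x (hasFDerivAt_prodMk_left x (circleMap c R θ))
    have h2 : ‖fderiv ℂ (fun x => F (x, circleMap c R θ)) w‖ ≤ 2 * (M + 1) / (ε / 2) := by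
      refine norm_fderiv_le_div_of_mapsTo_ball
        (fun x hx => (h1 x hx).differentiableAt.differentiableWithinAt) (fun x hx => ?_) (by linarith)
      rw [mem_closedBall, dist_eq_norm]
      exact (norm_sub_le _ _).trans (by
        linarith [(hball x (hsub hx) _ (hmem θ)).2,
          (hball w (hsub (mem_ball_self (by linarith))) _ (hmem θ)).2])
    rw [(h1 w (mem_ball_self (by linarith))).fderiv] at h2
    simp only [hF', norm_smul, deriv_circleMap, norm_mul, norm_circleMap_zero, norm_I, mul_one]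
    exact mul_le_mul_of_nonneg_left h2 (abs_nonneg R)
  have hcont : ∀ w ∈ ball w₀ ε, Continuous fun θ : ℝ =>
      deriv (circleMap c R) θ • F (w, circleMap c R θ) := by
    intro w hw
    simp only [smul_eq_mul]
    refine Continuous.mul ?_ ?_
    · simp only [funext (deriv_circleMap c R)]; fun_prop
    · exact continuous_iff_continuousAt.mpr fun θ =>
        (hball w hw _ (hmem θ)).1.continuousAt.comp
          (f := fun θ : ℝ => (w, circleMap c R θ)) (by fun_prop)
  have hmeas : StronglyMeasurable (F' w₀) := by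
    borelize (E × ℂ)
    borelize (E →L[ℂ] ℂ)
    haveI : ProperSpace (E →L[ℂ] ℂ) := FiniteDimensional.proper ℂ _
    haveI : ProperSpace (E × ℂ →L[ℂ] ℂ) := FiniteDimensional.proper ℂ _
    have hd : Continuous (deriv (circleMap c R)) := by rw [funext (deriv_circleMap c R)]; fun_prop
    refine hd.stronglyMeasurable.smul ?_
    refine (Measurable.stronglyMeasurable ?_)
    borelize (E × ℂ →L[ℂ] ℂ)
    exact ((ContinuousLinearMap.compL ℂ E (E × ℂ) ℂ).flip
      (ContinuousLinearMap.inl ℂ E ℂ)).continuous.measurable.comp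
      ((measurable_fderiv ℂ F).comp ((continuous_const.prodMk (continuous_circleMap c R)).measurable))
  refine (intervalIntegral.hasFDerivAt_integral_of_dominated_of_fderiv_le
    (ball_mem_nhds w₀ (half_pos hε)) ?_ ((hcont w₀ (mem_ball_self hε)).intervalIntegrable _ _)
    hmeas.aestronglyMeasurable (bound := fun _ => |R| * (2 * (M + 1) / (ε / 2))) ?_
    intervalIntegrable_const ?_).differentiableAt
  · filter_upwards [ball_mem_nhds w₀ hε] with w hw
    exact (hcont w hw).aestronglyMeasurable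
  · exact Eventually.of_forall fun θ _ w hw => hbd w hw θ
  · exact Eventually.of_forall fun θ _ w hw =>
      hder w (ball_subset_ball (by linarith) hw) θ

/-- Iterated difference quotient at the origin. -/
def dIter (k : ℕ) (h : ℂ → ℂ) : ℂ → ℂ := (fun g => dslope g 0)^[k] h

lemma dIter_succ (k : ℕ) (h : ℂ → ℂ) : dIter (k + 1) h = dslope (dIter k h) 0 :=
  Function.iterate_succ_apply' _ _ _

lemma differentiableOn_dIter {ρ : ℝ} (hρ : 0 < ρ) {h : ℂ → ℂ}
    (hh : DifferentiableOn ℂ h (ball 0 ρ)) (k : ℕ) : DifferentiableOn ℂ (dIter k h) (ball 0 ρ) := by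
  induction k with
  | zero => exact hh
  | succ k ih => rw [dIter_succ]; exact (differentiableOn_dslope (ball_mem_nhds _ hρ)).mpr ih

lemma norm_dIter_le {ρ r : ℝ} (hr : 0 < r) (hρ : r < ρ) {h : ℂ → ℂ}
    (hh : DifferentiableOn ℂ h (ball 0 ρ)) {M : ℝ} (hM : ∀ ζ ∈ sphere (0 : ℂ) r, ‖h ζ‖ ≤ M) (k : ℕ) :
    ∀ ζ ∈ sphere (0 : ℂ) r, ‖dIter k h ζ‖ ≤ (2 / r) ^ k * M := by
  induction k with
  | zero => simpa [dIter] using hM
  | succ k ih =>
    intro ζ hζ
    have h0 : ‖dIter k h 0‖ ≤ (2 / r) ^ k * M := by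
      refine norm_le_of_forall_mem_frontier_norm_le (isBounded_ball (x := 0) (r := r))
        (DifferentiableOn.diffContOnCl ?_) (fun z hz => ih z ?_) (subset_closure (mem_ball_self hr))
      · rw [closure_ball _ hr.ne']
        exact (differentiableOn_dIter (hr.trans hρ) hh k).mono (closedBall_subset_ball hρ)
      · rwa [frontier_ball _ hr.ne'] at hz
    have hne : ζ ≠ 0 := ne_zero_of_mem_sphere hr.ne' ⟨ζ, hζ⟩
    rw [dIter_succ, dslope_of_ne _ hne, slope_def_field, sub_zero, norm_div,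
      mem_sphere_zero_iff_norm.mp hζ, pow_succ, div_le_iff₀ hr]
    calc ‖dIter k h ζ - dIter k h 0‖ ≤ (2 / r) ^ k * M + (2 / r) ^ k * M :=
          (norm_sub_le _ _).trans (add_le_add (ih ζ hζ) h0)
      _ = (2 / r) ^ k * (2 / r) * M * r := by field_simp; ring

/-- The vanishing lemma. `g` is only used on the circle. -/
theorem circleIntegral_mul_eq_zero {ρ r : ℝ} (hr : 0 < r) (hρ : r < ρ) (m : ℕ)
    (g f u : ℂ → ℂ) (hg : ContinuousOn g (sphere 0 r)) (hf : DifferentiableOn ℂ f (ball 0 ρ))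
    (hu : DifferentiableOn ℂ u (ball 0 ρ)) (hu0 : ∀ ζ ∈ ball (0 : ℂ) ρ, u ζ ≠ 0)
    (hsmall : ∀ ζ ∈ sphere (0 : ℂ) r, ‖(f ζ - ζ ^ m * u ζ) / u ζ‖ * (2 / r) ^ m ≤ 1 / 2)
    (hker : ∀ q : ℂ → ℂ, DifferentiableOn ℂ q (ball 0 ρ) → (∮ ζ in C(0, r), g ζ * (f ζ * q ζ)) = 0)
    (hmom : ∀ k < m, (∮ ζ in C(0, r), g ζ * ζ ^ k) = 0)
    (h : ℂ → ℂ) (hh : DifferentiableOn ℂ h (ball 0 ρ)) :
    (∮ ζ in C(0, r), g ζ * h ζ) = 0 := by
  have hsub : sphere (0 : ℂ) r ⊆ ball 0 ρ := fun z hz => mem_ball_zero_iff.mpr (by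
    rw [mem_sphere_zero_iff_norm.mp hz]; exact hρ)
  set L : (ℂ → ℂ) → ℂ := fun φ => ∮ ζ in C(0, r), g ζ * φ ζ with hL
  have hint : ∀ φ : ℂ → ℂ, DifferentiableOn ℂ φ (ball 0 ρ) →
      CircleIntegrable (fun ζ => g ζ * φ ζ) 0 r := fun φ hφ =>
    (hg.mul (hφ.continuousOn.mono hsub)).circleIntegrable hr.le
  have hpow : ∀ k, DifferentiableOn ℂ (fun ζ : ℂ => ζ ^ k) (ball 0 ρ) := fun k => by fun_prop
  have hD : ∀ φ, DifferentiableOn ℂ φ (ball 0 ρ) → ∀ k, DifferentiableOn ℂ (dIter k φ) (ball 0 ρ) :=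
    fun φ hφ k => differentiableOn_dIter (hr.trans hρ) hφ k
  -- shift
  have hshift : ∀ φ, DifferentiableOn ℂ φ (ball 0 ρ) → ∀ k ≤ m,
      L φ = L (fun ζ => ζ ^ k * dIter k φ ζ) := by
    intro φ hφ k
    induction k with
    | zero => intro _; simp [dIter]
    | succ k ih =>
      intro hk
      rw [ih (by omega)]
      have e : EqOn (fun ζ => g ζ * (ζ ^ k * dIter k φ ζ))
          (fun ζ => dIter k φ 0 * (g ζ * ζ ^ k) + g ζ * (ζ ^ (k + 1) * dIter (k + 1) φ ζ)) (sphere 0 r) := by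
        intro ζ _
        have := sub_smul_dslope (dIter k φ) 0 ζ
        rw [sub_zero, smul_eq_mul, ← dIter_succ] at this
        linear_combination (-(g ζ * ζ ^ k)) * this
      simp only [hL]
      rw [circleIntegral.integral_congr hr.le e,
        circleIntegral.integral_add (f := fun ζ => dIter k φ 0 * (g ζ * ζ ^ k))
          (g := fun ζ => g ζ * (ζ ^ (k + 1) * dIter (k + 1) φ ζ))
          ((continuousOn_const.mul (hg.mul ((hpow k).continuousOn.mono hsub))).circleIntegrable hr.le)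
          (hint _ ((hpow (k + 1)).mul (hD φ hφ (k + 1)))),
        circleIntegral.integral_const_mul, hmom k (by omega), mul_zero, zero_add]
  -- the operator
  set T : (ℂ → ℂ) → ℂ → ℂ := fun φ ζ => (f ζ - ζ ^ m * u ζ) / u ζ * dIter m φ ζ with hT
  have hTd : ∀ φ, DifferentiableOn ℂ φ (ball 0 ρ) → DifferentiableOn ℂ (T φ) (ball 0 ρ) :=
    fun φ hφ => ((hf.sub ((hpow m).mul hu)).div hu hu0).mul (hD φ hφ m)
  have hLT : ∀ φ, DifferentiableOn ℂ φ (ball 0 ρ) → L φ = - L (T φ) := by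
    intro φ hφ
    rw [hshift φ hφ m le_rfl, eq_neg_iff_add_eq_zero]
    simp only [hL]
    rw [← circleIntegral.integral_add (f := fun ζ => g ζ * (ζ ^ m * dIter m φ ζ))
      (hint _ ((hpow m).mul (hD φ hφ m))) (hint _ (hTd φ hφ))]
    refine Eq.trans (circleIntegral.integral_congr hr.le fun ζ hζ => ?_)
      (hker (fun ζ => dIter m φ ζ / u ζ) ((hD φ hφ m).div hu hu0))
    have := hu0 ζ (hsub hζ)
    simp only [hT]
    field_simp
    ring
  have hiter : ∀ n : ℕ, DifferentiableOn ℂ (T^[n] h) (ball 0 ρ) := by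
    intro n
    induction n with
    | zero => exact hh
    | succ n ih => rw [Function.iterate_succ_apply']; exact hTd _ ih
  have hLn : ∀ n : ℕ, ‖L h‖ = ‖L (T^[n] h)‖ := by
    intro n
    induction n with
    | zero => rfl
    | succ n ih => rw [Function.iterate_succ_apply', ih, hLT _ (hiter n), norm_neg]
  obtain ⟨B, hB⟩ := (isCompact_sphere (0 : ℂ) r).exists_bound_of_continuousOn hg
  obtain ⟨M, hM⟩ := (isCompact_sphere (0 : ℂ) r).exists_bound_of_continuousOn (hh.continuousOn.mono hsub)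
  have hTn : ∀ n : ℕ, ∀ ζ ∈ sphere (0 : ℂ) r, ‖T^[n] h ζ‖ ≤ (1 / 2) ^ n * M := by
    intro n
    induction n with
    | zero => simpa using hM
    | succ n ih =>
      intro ζ hζ
      have hM0 : 0 ≤ (1 / 2 : ℝ) ^ n * M := (norm_nonneg _).trans (ih ζ hζ)
      rw [Function.iterate_succ_apply']
      simp only [hT, norm_mul]
      refine (mul_le_mul_of_nonneg_left (norm_dIter_le hr hρ (hiter n) ih m ζ hζ) (norm_nonneg _)).trans ?_
      rw [← mul_assoc, pow_succ, mul_comm ((1 / 2 : ℝ) ^ n) (1 / 2), mul_assoc (1 / 2 : ℝ)]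
      exact mul_le_mul_of_nonneg_right (hsmall ζ hζ) hM0
  have hle : ∀ n : ℕ, ‖L h‖ ≤ 2 * Real.pi * r * (B * ((1 / 2) ^ n * M)) := by
    intro n
    rw [hLn n]
    refine circleIntegral.norm_integral_le_of_norm_le_const hr.le fun ζ hζ => ?_
    rw [norm_mul]
    exact mul_le_mul (hB ζ hζ) (hTn n ζ hζ) (norm_nonneg _) ((norm_nonneg _).trans (hB ζ hζ))
  have hlim : Tendsto (fun n : ℕ => 2 * Real.pi * r * (B * ((1 / 2 : ℝ) ^ n * M))) atTop (𝓝 0) := by
    have h := (tendsto_pow_atTop_nhds_zero_of_lt_one (r := (1 / 2 : ℝ)) (by norm_num) (by norm_num))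
    have h' := (((h.mul_const M).const_mul B).const_mul (2 * Real.pi * r))
    simpa using h'
  exact norm_le_zero_iff.mp (ge_of_tendsto' hlim hle)

end

end Groth.Agent.AnGerm
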