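import Groth.Agent.AnGerm.Cpl
import Groth.Agent.SerreReg.Descent
import Groth.Agent.SmLocalST.EtReg
import Groth.Agent.CMFlat.Scheme
import Groth.Agent.S9249
import Groth.Agent.FlatDepth.Serre
import Groth.Agent.FlatDepth.Fibre
import Groth.Agent.AdicBasics.Dimension

/-!
Properties shared by a local ring and a ring between it and its completion.
-/

set_option autoImplicit false
set_option linter.style.haveILetI false

universe u

open IsLocalRing

namespace Groth.Agent.AnGerm

/-- Regular rings satisfy every `(S_k)`. -/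
theorem hasSk_of_isRegularRing (F : Type u) [CommRing F] [IsRegularRing F] (k : ℕ) : LocCoh.HasSk k F F := by
  rw [FlatDepth.hasSk_iff_condS]
  intro q _
  have h := (FlatDepth.isCM_of_isRegularRing F).isCohenMacaulayLocalRing_localization q
  rw [FlatDepth.CondS, ← Module.supportDim_self_eq_ringKrullDim, h.supportDim_eq_depth]
  exact min_le_right _ _

/-- Geometrically regular algebras are regular. -/
theorem isRegularRing_of_geomRegular {k F : Type u} [Field k] [CommRing F] [Algebra k F]
    (h : CAlg.IsGeometricallyRegular k F) : IsRegularRing F :=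
  haveI := h k inferInstance
  IsRegularRing.of_ringEquiv (Algebra.TensorProduct.lid k F).toRingEquiv

/-- A local ring with normal localisation at its maximal ideal is a normal domain. -/
theorem normal_of_loc {A : Type u} [CommRing A] [IsLocalRing A] (P : Ideal A) [P.IsPrime]
    (hP : P = maximalIdeal A)
    (h : IsDomain (Localization.AtPrime P) ∧ IsIntegrallyClosed (Localization.AtPrime P)) :
    IsDomain A ∧ IsIntegrallyClosed A := by
  subst hP
  obtain ⟨_, _⟩ := h
  let e : A ≃+* Localization.AtPrime (maximalIdeal A) :=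
    (IsLocalization.atUnits A (maximalIdeal A).primeCompl
      (S := Localization.AtPrime (maximalIdeal A))
      (fun x hx => notMem_maximalIdeal.1 hx)).toRingEquiv
  haveI := e.toMulEquiv.isDomain (Localization.AtPrime (maximalIdeal A))
  exact ⟨inferInstance, IsIntegrallyClosed.of_equiv e.symm⟩

variable {R S : Type u} [CommRing R] [CommRing S] [IsLocalRing R] [IsLocalRing S] [IsNoetherianRing R]
  [IsNoetherianRing S]

/-- `S` lies faithfully flatly between `R` and its completion. -/
structure Between (φ : R →+* S) (ψ : S →+* EGA4.Cpl R) : Prop where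
  flat : φ.Flat
  isLocalHom : IsLocalHom φ
  flat' : ψ.Flat
  isLocalHom' : IsLocalHom ψ
  comp : ψ.comp φ = algebraMap R (EGA4.Cpl R)

variable {φ : R →+* S} {ψ : S →+* EGA4.Cpl R}

theorem ringKrullDim_eq (h : Between φ ψ) : ringKrullDim R = ringKrullDim S := by
  algebraize [φ, ψ]
  haveI : IsLocalHom (algebraMap R S) := h.isLocalHom
  haveI : IsLocalHom (algebraMap S (EGA4.Cpl R)) := h.isLocalHom'
  haveI : Module.Flat R S := h.flat
  haveI : Module.Flat S (EGA4.Cpl R) := h.flat'
  refine le_antisymm (SmLocalST.ringKrullDim_le_of_flat_local R S) ?_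
  exact (SmLocalST.ringKrullDim_le_of_flat_local S (EGA4.Cpl R)).trans_eq (AdicBasics.ringKrullDim_completion R)

theorem isRegular_iff (h : Between φ ψ) : IsRegularLocalRing R ↔ IsRegularLocalRing S := by
  algebraize [φ, ψ]
  haveI : IsLocalHom (algebraMap R S) := h.isLocalHom
  haveI : IsLocalHom (algebraMap S (EGA4.Cpl R)) := h.isLocalHom'
  haveI : Module.Flat R S := h.flat
  haveI : Module.Flat S (EGA4.Cpl R) := h.flat'
  refine ⟨fun hR => ?_, fun hS => SerreReg.isRegularLocalRing_of_flat R S⟩
  haveI := (AdicBasics.isRegularLocalRing_completion_iff R).mp hR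
  exact SerreReg.isRegularLocalRing_of_flat S (EGA4.Cpl R)

theorem isCM_iff (h : Between φ ψ) :
    LocCoh.IsCohenMacaulayLocalRing R ↔ LocCoh.IsCohenMacaulayLocalRing S := by
  algebraize [φ, ψ]
  haveI : IsLocalHom (algebraMap R S) := h.isLocalHom
  haveI : IsLocalHom (algebraMap S (EGA4.Cpl R)) := h.isLocalHom'
  haveI : Module.Flat R S := h.flat
  haveI : Module.Flat S (EGA4.Cpl R) := h.flat'
  haveI : IsNoetherianRing (EGA4.Cpl R) := AdicBasics.isNoetherianRing_completion R
  have hle : (maximalIdeal R).map (algebraMap R (EGA4.Cpl R)) ≤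
      (maximalIdeal S).map (algebraMap S (EGA4.Cpl R)) := by
    rw [← h.comp, ← Ideal.map_map]
    exact Ideal.map_mono (IsLocalRing.map_maximalIdeal_le _)
  have h0 : ringKrullDim (EGA4.Cpl R ⧸ (maximalIdeal S).map (algebraMap S (EGA4.Cpl R))) = 0 := by
    haveI : ((maximalIdeal S).map (algebraMap S (EGA4.Cpl R))).IsMaximal := by
      have e : (maximalIdeal S).map (algebraMap S (EGA4.Cpl R)) = maximalIdeal (EGA4.Cpl R) :=
        le_antisymm (IsLocalRing.map_maximalIdeal_le _) (by rwa [AdicCompletion.maximalIdeal_eq_map])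
      rw [e]; exact maximalIdeal.isMaximal _
    letI := Ideal.Quotient.field ((maximalIdeal S).map (algebraMap S (EGA4.Cpl R)))
    exact ringKrullDim_eq_zero_of_field _
  exact (S9249.result R).trans (CMFlat.isCohenMacaulayLocalRing_iff_of_dim_zero h0).1

theorem hasSk_iff (h : Between φ ψ) (hreg : CAlg.IsRegularHom R (EGA4.Cpl R)) (k : ℕ) :
    LocCoh.HasSk k R R ↔ LocCoh.HasSk k S S := by
  algebraize [φ, ψ]
  haveI : IsLocalHom (algebraMap R S) := h.isLocalHom
  haveI : IsLocalHom (algebraMap S (EGA4.Cpl R)) := h.isLocalHom'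
  haveI : Module.Flat R S := h.flat
  haveI : Module.Flat S (EGA4.Cpl R) := h.flat'
  haveI : Module.FaithfullyFlat R S := Module.FaithfullyFlat.of_flat_of_isLocalHom
  haveI : Module.FaithfullyFlat S (EGA4.Cpl R) := Module.FaithfullyFlat.of_flat_of_isLocalHom
  haveI : IsNoetherianRing (EGA4.Cpl R) := AdicBasics.isNoetherianRing_completion R
  haveI : Module.Flat R (EGA4.Cpl R) := AdicCompletion.flat_of_isNoetherian _
  refine ⟨fun hR => FlatDepth.hasSk_descent (B := EGA4.Cpl R) k ?_, fun hS => FlatDepth.hasSk_descent k hS⟩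
  refine FlatDepth.hasSk_of_flat_fibres k hR fun p _ => ?_
  haveI := hreg.2 p |>.1
  haveI : IsRegularRing (p.Fiber (EGA4.Cpl R)) :=
    isRegularRing_of_geomRegular (hreg.2 p).2
  exact hasSk_of_isRegularRing _ k

theorem hasRk_iff (h : Between φ ψ) (hreg : CAlg.IsRegularHom R (EGA4.Cpl R)) (k : ℕ) :
    LocCoh.HasRk k R ↔ LocCoh.HasRk k S := by
  algebraize [φ, ψ]
  haveI : IsLocalHom (algebraMap R S) := h.isLocalHom
  haveI : IsLocalHom (algebraMap S (EGA4.Cpl R)) := h.isLocalHom'
  haveI : Module.Flat R S := h.flat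
  haveI : Module.Flat S (EGA4.Cpl R) := h.flat'
  haveI : Module.FaithfullyFlat R S := Module.FaithfullyFlat.of_flat_of_isLocalHom
  haveI : Module.FaithfullyFlat S (EGA4.Cpl R) := Module.FaithfullyFlat.of_flat_of_isLocalHom
  haveI : IsNoetherianRing (EGA4.Cpl R) := AdicBasics.isNoetherianRing_completion R
  haveI : Module.Flat R (EGA4.Cpl R) := AdicCompletion.flat_of_isNoetherian _
  refine ⟨fun hR => FlatDepth.hasRk_descent (B := EGA4.Cpl R) k ?_, fun hS => FlatDepth.hasRk_descent k hS⟩
  refine FlatDepth.hasRk_of_flat k hR fun q _ _ => ?_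
  obtain ⟨Q, _, ⟨e⟩⟩ := FlatDepth.exists_fibre_equiv (A := R) q
  haveI : IsRegularRing ((q.comap (algebraMap R (EGA4.Cpl R))).Fiber (EGA4.Cpl R)) :=
    isRegularRing_of_geomRegular (hreg.2 _).2
  exact IsRegularLocalRing.of_ringEquiv (R := Localization.AtPrime Q) e

theorem isNormal_iff (h : Between φ ψ) (hreg : CAlg.IsRegularHom R (EGA4.Cpl R)) :
    (IsDomain R ∧ IsIntegrallyClosed R) ↔ (IsDomain S ∧ IsIntegrallyClosed S) := by
  algebraize [φ, ψ]
  haveI : IsLocalHom (algebraMap R S) := h.isLocalHom
  haveI : IsLocalHom (algebraMap S (EGA4.Cpl R)) := h.isLocalHom'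
  haveI : Module.Flat R S := h.flat
  haveI : Module.Flat S (EGA4.Cpl R) := h.flat'
  haveI : IsNoetherianRing (EGA4.Cpl R) := AdicBasics.isNoetherianRing_completion R
  constructor
  · rintro ⟨_, _⟩
    have hn : EGA4.IsNormalRing R := fun p _ =>
      ⟨IsLocalization.isDomain_localization p.primeCompl_le_nonZeroDivisors,
        isIntegrallyClosed_of_isLocalization _ p.primeCompl p.primeCompl_le_nonZeroDivisors⟩
    have hc := (FlatDepth.isNormalRing_cpl_iff R fun p _ =>
      FlatDepth.geomNormal_of_geomRegular (hreg.2 p).2).mp hn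
    obtain ⟨_, _⟩ := hc (maximalIdeal (EGA4.Cpl R))
    exact normal_of_loc _ (IsLocalRing.maximalIdeal_comap _)
      (FlatDepth.normal_atPrime_descent (A := S) (maximalIdeal (EGA4.Cpl R)))
  · rintro ⟨_, _⟩
    haveI : IsDomain (Localization.AtPrime (maximalIdeal S)) :=
      IsLocalization.isDomain_localization (maximalIdeal S).primeCompl_le_nonZeroDivisors
    haveI : IsIntegrallyClosed (Localization.AtPrime (maximalIdeal S)) :=
      isIntegrallyClosed_of_isLocalization _ (maximalIdeal S).primeCompl
        (maximalIdeal S).primeCompl_le_nonZeroDivisors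
    exact normal_of_loc _ (IsLocalRing.maximalIdeal_comap _)
      (FlatDepth.normal_atPrime_descent (A := R) (maximalIdeal S))

end Groth.Agent.AnGerm
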