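import Groth.Agent.AnGerm.Stalk
import Groth.Agent.AnGerm.Props
import Groth.Agent.Hensel.PairNoeth
import Groth.Agent.SepSurj.Basic

/-!
`O_{X,x} → O_{X^an,x}` is faithfully flat and induces an isomorphism of completions.
-/

set_option autoImplicit false
set_option backward.isDefEq.respectTransparency false

open CategoryTheory AlgebraicGeometry IsLocalRing

namespace Groth.Agent.AnGerm

noncomputable section

variable {X : Scheme.{0}} [X.Over An.SC] [LocallyOfFiniteType (X ↘ An.SC)] [IsReduced X]

/-- The algebraic local ring acting on the analytic one. -/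
@[instance_reducible]
def algSt (x : An.Pts X) : Algebra (X.presheaf.stalk x.pt) (St x) := (cmp x).toAlgebra

attribute [local instance] algSt

theorem powBij (x : An.Pts X) : Hensel.PowBij (maximalIdeal (X.presheaf.stalk x.pt)) (St x) where
  mem n a h := by
    refine mem_pow_of_cmp_mem x n a ?_
    rwa [← map_maximalIdeal_cmp]
  exists_sub n b := by
    obtain ⟨a, ha⟩ := exists_sub_mem_pow x n b
    refine ⟨a, ?_⟩
    rw [← map_maximalIdeal_cmp] at ha
    rw [← neg_sub]; exact neg_mem ha

/-- The map from the analytic local ring to the completion of the algebraic one. -/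
def toCpl (x : An.Pts X) : St x →+* EGA4.Cpl (X.presheaf.stalk x.pt) := (powBij x).toCompletion

theorem toCpl_cmp (x : An.Pts X) :
    (toCpl x).comp (cmp x) = algebraMap (X.presheaf.stalk x.pt) (EGA4.Cpl (X.presheaf.stalk x.pt)) := by
  refine RingHom.ext fun a => AdicCompletion.ext_evalₐ fun n => ?_
  refine Eq.trans ((powBij x).evalₐ_toCompletion (a := a) ?_) ((AdicCompletion.evalₐ _ n).commutes a).symm
  change cmp x a - cmp x a ∈ _
  rw [sub_self]; exact zero_mem _

theorem flat_toCpl (x : An.Pts X) : (toCpl x).Flat := (powBij x).flat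

theorem isLocalHom_toCpl (x : An.Pts X) : IsLocalHom (toCpl x) := by
  have := isNoetherianRing_stalk (X := X) x.pt
  refine ((IsLocalRing.local_hom_TFAE (toCpl x)).out 0 2).mpr ?_
  rw [← map_maximalIdeal_cmp, Ideal.map_map, toCpl_cmp, AdicCompletion.maximalIdeal_eq_map]

theorem faithfullyFlat_toCpl (x : An.Pts X) : (toCpl x).FaithfullyFlat := by
  have := isNoetherianRing_stalk (X := X) x.pt
  let _ := (toCpl x).toAlgebra
  have : Module.Flat (St x) (EGA4.Cpl (X.presheaf.stalk x.pt)) := flat_toCpl x
  have : IsLocalHom (algebraMap (St x) (EGA4.Cpl (X.presheaf.stalk x.pt))) := isLocalHom_toCpl x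
  exact Module.FaithfullyFlat.of_flat_of_isLocalHom

theorem flat_cmp (x : An.Pts X) : (cmp x).Flat := by
  have := isNoetherianRing_stalk (X := X) x.pt
  let _ := (toCpl x).toAlgebra
  have : IsScalarTower (X.presheaf.stalk x.pt) (St x) (EGA4.Cpl (X.presheaf.stalk x.pt)) :=
    .of_algebraMap_eq fun a => (RingHom.congr_fun (toCpl_cmp x) a).symm
  have : Module.FaithfullyFlat (St x) (EGA4.Cpl (X.presheaf.stalk x.pt)) := faithfullyFlat_toCpl x
  have : Module.Flat (X.presheaf.stalk x.pt) (EGA4.Cpl (X.presheaf.stalk x.pt)) :=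
    AdicCompletion.flat_of_isNoetherian _
  exact SepSurj.flat_of_comp_faithfullyFlat (T := EGA4.Cpl (X.presheaf.stalk x.pt))

theorem faithfullyFlat_cmp (x : An.Pts X) : (cmp x).FaithfullyFlat := by
  have : Module.Flat (X.presheaf.stalk x.pt) (St x) := flat_cmp x
  have : IsLocalHom (algebraMap (X.presheaf.stalk x.pt) (St x)) := isLocalHom_cmp x
  exact Module.FaithfullyFlat.of_flat_of_isLocalHom

theorem between (x : An.Pts X) : Between (cmp x) (toCpl x) :=
  ⟨flat_cmp x, isLocalHom_cmp x, flat_toCpl x, isLocalHom_toCpl x, toCpl_cmp x⟩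

end

end Groth.Agent.AnGerm
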