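import Groth.Agent.AnGerm.Map
import Groth.Agent.AnLib.Etale
import Mathlib.RingTheory.Filtration
import Mathlib.Algebra.Polynomial.Lifts

/-!
Étale morphisms give isomorphisms of analytic local rings.
-/

set_option autoImplicit false
set_option backward.isDefEq.respectTransparency false
set_option linter.style.haveILetI false

open CategoryTheory AlgebraicGeometry TopologicalSpace IsLocalRing Filter Topology Polynomial Asymptotics
open scoped Groth.Agent.AnLib

namespace Groth.Agent.AnGerm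

noncomputable section

open Groth.Agent.AnLib

lemma differentiableAt_mul_of_zero {E : Type*} [NormedAddCommGroup E] [NormedSpace ℂ E] {N k : E → ℂ} {t : E}
    (hN : DifferentiableAt ℂ N t) (h0 : N t = 0) (hk : ContinuousAt k t) :
    DifferentiableAt ℂ (fun z => N z * k z) t := by
  refine ⟨k t • fderiv ℂ N t, HasFDerivAt.of_isLittleO ?_⟩
  have h1 : (fun z => N z - fderiv ℂ N t (z - t)) =o[𝓝 t] fun z => z - t := by
    simpa [h0] using hN.hasFDerivAt.isLittleO
  have hk0 : (fun z => k z - k t) =o[𝓝 t] fun _ => (1 : ℝ) :=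
    (isLittleO_one_iff ℝ).mpr (by simpa using hk.tendsto.sub_const (k t))
  have hNO : (fun z => N z) =O[𝓝 t] fun z => z - t := by simpa [h0] using hN.hasFDerivAt.isBigO_sub
  have h2 : (fun z => N z * (k z - k t)) =o[𝓝 t] fun z => z - t :=
    (hNO.norm_right.mul_isLittleO hk0).congr_right (fun z => mul_one _) |>.of_norm_right
  refine ((h1.const_mul_left (k t)).add h2).congr_left fun z => ?_
  simp [h0]
  ring

/-- The monic polynomial with given lower coefficients. -/
def monicPoly {d : ℕ} (t : Fin d → ℂ) : ℂ[X] := X ^ d + ∑ i : Fin d, C (t i) * X ^ (i : ℕ)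

lemma monicPoly_monic {d : ℕ} (t : Fin d → ℂ) : (monicPoly t).Monic :=
  monic_X_pow_add (degree_sum_fin_lt t)

lemma natDegree_monicPoly {d : ℕ} (t : Fin d → ℂ) : (monicPoly t).natDegree = d := by
  refine natDegree_eq_of_degree_eq_some ?_
  rw [monicPoly, degree_add_eq_left_of_degree_lt, degree_X_pow]
  rw [degree_X_pow]; exact degree_sum_fin_lt t

lemma eval_monicPoly {d : ℕ} (t : Fin d → ℂ) (c : ℂ) :
    (monicPoly t).eval c = c ^ d + ∑ i : Fin d, t i * c ^ (i : ℕ) := by
  simp [monicPoly, eval_finsetSum]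

lemma derivative_monicPoly {d : ℕ} (t : Fin d → ℂ) (c : ℂ) :
    (derivative (monicPoly t)).eval c =
      (d : ℂ) * c ^ (d - 1) + ∑ i : Fin d, t i * ((i : ℕ) * c ^ ((i : ℕ) - 1)) := by
  simp [monicPoly, eval_finsetSum, derivative_X_pow]

/-- A simple root of a monic polynomial is a holomorphic function of the coefficients. -/
theorem exists_root_fun {d : ℕ} (t₀ : Fin d → ℂ) (c₀ : ℂ) (hroot : (monicPoly t₀).eval c₀ = 0)
    (hsimple : (derivative (monicPoly t₀)).eval c₀ ≠ 0) :
    ∃ s : (Fin d → ℂ) → ℂ, s t₀ = c₀ ∧ (∀ᶠ t in 𝓝 t₀, DifferentiableAt ℂ s t) ∧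
      ∀ᶠ t in 𝓝 t₀, (monicPoly t).eval (s t) = 0 := by
  have hcont : ∀ i, Continuous fun t : Fin d → ℂ => (monicPoly t).coeff i := fun i => by
    simp only [monicPoly, coeff_add, finsetSum_coeff, coeff_C_mul]
    fun_prop
  obtain ⟨W, δ, s, hW, hW₀, hδ, hs, hspec⟩ := exists_unique_root_near monicPoly d monicPoly_monic
    natDegree_monicPoly hcont (t₀ := t₀) (c₀ := c₀) hroot hsimple
  have hs₀ : s t₀ = c₀ := ((hspec t₀ hW₀).2.2 c₀ hroot (by simpa using hδ)).symm
  refine ⟨s, hs₀, ?_, eventually_of_mem (hW.mem_nhds hW₀) fun t ht => (hspec t ht).2.1⟩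
  have hsc : ∀ t ∈ W, ContinuousAt s t := fun t ht => hs.continuousAt (hW.mem_nhds ht)
  let q : (Fin d → ℂ) → ℂ → ℂ → ℂ := fun t a b =>
    (∑ j ∈ Finset.range d, a ^ j * b ^ (d - 1 - j)) +
      ∑ i : Fin d, t i * ∑ j ∈ Finset.range i, a ^ j * b ^ ((i : ℕ) - 1 - j)
  have hq : ∀ t a b, (monicPoly t).eval a - (monicPoly t).eval b = q t a b * (a - b) := by
    intro t a b
    simp only [eval_monicPoly, q]
    rw [add_mul, geom_sum₂_mul, Finset.sum_mul]
    rw [Finset.sum_congr rfl fun i _ => show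
        (t i * ∑ j ∈ Finset.range (i : ℕ), a ^ j * b ^ ((i : ℕ) - 1 - j)) * (a - b) =
          t i * a ^ (i : ℕ) - t i * b ^ (i : ℕ) by rw [mul_assoc, geom_sum₂_mul, mul_sub],
      Finset.sum_sub_distrib]
    ring
  have hd1 : ∀ (k : ℕ) (a : ℂ), ∑ j ∈ Finset.range k, a ^ j * a ^ (k - 1 - j) = k * a ^ (k - 1) := by
    intro k a
    rw [Finset.sum_congr rfl fun j hj => by
      rw [← pow_add, show j + (k - 1 - j) = k - 1 by have := Finset.mem_range.mp hj; omega],
      Finset.sum_const, Finset.card_range, nsmul_eq_mul]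
  have hqd : ∀ t a, q t a a = (derivative (monicPoly t)).eval a := fun t a => by
    simp only [q, hd1, derivative_monicPoly]
  have hqc : Continuous fun p : (Fin d → ℂ) × ℂ × ℂ => q p.1 p.2.1 p.2.2 := by
    simp only [q]
    refine (continuous_finsetSum _ fun j _ => by fun_prop).add (continuous_finsetSum _ fun i _ => ?_)
    exact Continuous.mul (by fun_prop) (continuous_finsetSum _ fun j _ => by fun_prop)
  have hqat : ∀ {t₁ : Fin d → ℂ} {u v : (Fin d → ℂ) → ℂ}, ContinuousAt u t₁ → ContinuousAt v t₁ →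
      ContinuousAt (fun t => q t (u t) (v t)) t₁ := fun hu hv =>
    hqc.continuousAt.comp (f := fun t => (t, _, _)) (continuousAt_id.prodMk (hu.prodMk hv))
  have hne : ∀ᶠ t in 𝓝 t₀, q t (s t) (s t) ≠ 0 :=
    ContinuousAt.eventually_ne (hqat (hsc t₀ hW₀) (hsc t₀ hW₀)) (by rw [hqd, hs₀]; exact hsimple)
  filter_upwards [hne, hW.mem_nhds hW₀] with t₁ ht₁ htW
  have hq₁ : ContinuousAt (fun t => q t (s t) (s t₁)) t₁ := hqat (hsc t₁ htW) continuousAt_const
  have hk : ContinuousAt (fun t => -(q t (s t) (s t₁))⁻¹) t₁ := (hq₁.inv₀ ht₁).neg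
  have hN : DifferentiableAt ℂ (fun t => (monicPoly t).eval (s t₁)) t₁ := by
    simp only [eval_monicPoly]; fun_prop
  have hqne : ∀ᶠ t in 𝓝 t₁, q t (s t) (s t₁) ≠ 0 := hq₁.eventually_ne ht₁
  refine ((differentiableAt_mul_of_zero hN (hspec t₁ htW).2.1 hk).add_const (s t₁)).congr_of_eventuallyEq ?_
  filter_upwards [hW.mem_nhds htW, hqne] with t ht hne
  have h := hq t (s t) (s t₁)
  rw [show (monicPoly t).eval (s t) = 0 from (hspec t ht).2.1] at h
  field_simp
  linear_combination -h

lemma IsHolNear.pow {E : Type*} [NormedAddCommGroup E] [NormedSpace ℂ E] {f : E → ℂ} (hf : IsHolNear f)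
    (k : ℕ) : IsHolNear fun z => f z ^ k := hf.mono fun _ h => h.pow k

lemma mk_pow {E : Type*} [NormedAddCommGroup E] [NormedSpace ℂ E] {f : E → ℂ} (hf : IsHolNear f) (k : ℕ) :
    mk f hf ^ k = mk _ (hf.pow k) := by
  induction k with
  | zero =>
    rw [pow_zero, show (1 : Hol E) = mk _ (isHolNear_const 1) from rfl, mk_eq_mk]
    exact Eventually.of_forall fun z => (pow_zero _).symm
  | succ k ih =>
    rw [pow_succ, ih, mk_mul, mk_eq_mk]
    exact Eventually.of_forall fun z => (pow_succ _ _).symm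

/-- Germs of holomorphic functions are henselian. -/
theorem exists_root_hol {n : ℕ} (P : (Hol (Fin n → ℂ))[X]) (hP : P.Monic) (c₀ : ℂ)
    (hroot : (P.map (value _)).eval c₀ = 0) (hsimple : (derivative (P.map (value _))).eval c₀ ≠ 0) :
    ∃ s, P.eval s = 0 ∧ value _ s = c₀ := by
  set d := P.natDegree
  choose a ha hae using fun i : Fin d => exists_mk (P.coeff i)
  have he : P.map (value _) = monicPoly fun i => a i 0 := by
    conv_lhs => rw [hP.as_sum]
    simp only [Polynomial.map_add, Polynomial.map_pow, Polynomial.map_X, Polynomial.map_sum,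
      Polynomial.map_mul, Polynomial.map_C, monicPoly]
    rw [← Fin.sum_univ_eq_sum_range (fun i => C (value _ (P.coeff i)) * X ^ i) d]
    exact congrArg _ (Finset.sum_congr rfl fun i _ => by rw [← hae i]; rfl)
  rw [he] at hroot hsimple
  obtain ⟨s, hs0, hsd, hsr⟩ := exists_root_fun _ c₀ hroot hsimple
  let A : (Fin n → ℂ) → (Fin d → ℂ) := fun z i => a i z
  have hA : ∀ᶠ z in 𝓝 (0 : Fin n → ℂ), DifferentiableAt ℂ A z :=
    (eventually_all.mpr fun i => ha i).mono fun z hz => differentiableAt_pi.mpr hz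
  have hAc : ContinuousAt A 0 := hA.self_of_nhds.continuousAt
  have hcomp : IsHolNear fun z => s (A z) :=
    (hA.and (hAc.eventually hsd)).mono fun z hz => hz.2.comp z hz.1
  refine ⟨mk _ hcomp, ?_, by rw [value_mk]; exact hs0⟩
  rw [eval_eq_sum_range' (n := d + 1) (by omega), Finset.sum_range_succ, hP.coeff_natDegree, one_mul,
    ← Fin.sum_univ_eq_sum_range (fun i => P.coeff i * mk _ hcomp ^ i) d]
  simp only [← hae, mk_pow, mk_mul]
  have hsum : ∀ (t : Finset (Fin d)), ∃ h : IsHolNear fun z => ∑ i ∈ t, a i z * s (A z) ^ (i : ℕ),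
      mk _ h = ∑ i ∈ t, mk _ ((ha i).mul (hcomp.pow i)) := by
    intro t
    induction t using Finset.induction_on with
    | empty => exact ⟨by simpa using isHolNear_const 0, by rw [Finset.sum_empty, mk_eq_zero]; simp⟩
    | insert b t hb ih =>
      obtain ⟨h, e⟩ := ih
      refine ⟨(((ha b).mul (hcomp.pow b)).add h).congr (Eventually.of_forall fun z => by
        simp [Finset.sum_insert hb]), ?_⟩
      rw [Finset.sum_insert hb, ← e, mk_add, mk_eq_mk]
      exact Eventually.of_forall fun z => by simp [Finset.sum_insert hb]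
  obtain ⟨h, e⟩ := hsum Finset.univ
  rw [← e, mk_add, mk_eq_zero]
  filter_upwards [hAc.eventually hsr] with z hz
  rw [eval_monicPoly] at hz
  rw [add_comm]; exact hz

/-- Local homomorphisms agreeing on polynomials agree. -/
theorem hom_ext_polyHom {n : ℕ} {S : Type*} [CommRing S] [IsLocalRing S] [IsNoetherianRing S]
    (φ ψ : Hol (Fin n → ℂ) →+* S) [IsLocalHom φ] [IsLocalHom ψ]
    (h : ∀ p, φ (polyHom n p) = ψ (polyHom n p)) : φ = ψ := by
  refine RingHom.ext fun g => ?_
  rw [← sub_eq_zero, ← Ideal.mem_bot,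
    ← Ideal.iInf_pow_eq_bot_of_isLocalRing (maximalIdeal S) (maximalIdeal.isMaximal S).ne_top, Ideal.mem_iInf]
  intro k
  obtain ⟨p, hp⟩ := exists_poly_sub_mem g k
  have mem : ∀ (χ : Hol (Fin n → ℂ) →+* S) [IsLocalHom χ], χ (g - polyHom n p) ∈ maximalIdeal S ^ k := by
    intro χ _
    have h1 := Ideal.mem_map_of_mem χ hp
    rw [Ideal.map_pow] at h1
    exact Ideal.pow_right_mono (IsLocalRing.map_maximalIdeal_le χ) k h1
  rw [show φ g - ψ g = φ (g - polyHom n p) - ψ (g - polyHom n p) by rw [map_sub, map_sub, h p]; ring]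
  exact sub_mem (mem φ) (mem ψ)

section maps

variable {X Y : Scheme.{0}} [X.Over An.SC] [Y.Over An.SC]
  [LocallyOfFiniteType (X ↘ An.SC)] [LocallyOfFiniteType (Y ↘ An.SC)]

omit [Y.Over An.SC] [LocallyOfFiniteType (Y ↘ An.SC)] [LocallyOfFiniteType (X ↘ An.SC)] in
theorem Chart.isLocalHom_pull {x : An.Pts X} (c : Chart x) : IsLocalHom c.pull :=
  c.pull_surjective.isLocalHom

omit [Y.Over An.SC] [LocallyOfFiniteType (Y ↘ An.SC)] in
theorem Chart.value_eq {x : An.Pts X} (c : Chart x) (g : Hol (Fin c.n → ℂ)) (a : Γ(X, c.U))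
    (h : c.pull g = cmp x (c.toStalk a)) : value _ g = toHom x c.U c.hx a := by
  haveI := c.isLocalHom_pull
  obtain ⟨P, rfl⟩ := c.surj a
  rw [c.cmp_toStalk, ← sub_eq_zero, ← map_sub] at h
  have hmem : g - polyHom c.n P ∈ maximalIdeal (Hol (Fin c.n → ℂ)) := by
    rw [IsLocalRing.mem_maximalIdeal, mem_nonunits_iff]
    intro hu
    exact not_isUnit_zero (h ▸ hu.map c.pull)
  rw [mem_maximalIdeal_iff, map_sub, sub_eq_zero, polyHom_apply, value_mk] at hmem
  rw [hmem, apply_aeval, funext c.zero]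
  rfl

variable [IsReduced X] [IsReduced Y] (f : X ⟶ Y) [f.IsOver An.SC]

omit [IsReduced X] [IsReduced Y] [LocallyOfFiniteType (X ↘ An.SC)] [LocallyOfFiniteType (Y ↘ An.SC)] in
lemma algStalk_germ (x : An.Pts X) {V : Y.Opens} (hy : (An.Pts.map f x).pt ∈ V) {U : X.Opens}
    (hx : x.pt ∈ U) (e : U ≤ f ⁻¹ᵁ V) (a : Γ(Y, V)) :
    algStalk f x (Y.presheaf.germ V _ hy a) = X.presheaf.germ U x.pt hx (f.appLE V U e a) := by
  refine (f.germ_stalkMap_apply V x.pt hy a).trans ?_
  exact (X.presheaf.germ_res_apply (homOfLE e) x.pt hx (f.app V a)).symm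

omit [IsReduced X] [IsReduced Y] in
/-- The analytic stalk map is surjective once algebraic germs are in its range. -/
theorem surjective_anStalk (x : An.Pts X) (h : ∀ a, cmp x a ∈ (anStalk f x).range) :
    Function.Surjective (anStalk f x) := by
  obtain ⟨c⟩ := nonempty_chart x
  obtain ⟨cY⟩ := nonempty_chart (An.Pts.map f x)
  haveI := c.isLocalHom_pull
  haveI := cY.isLocalHom_pull
  haveI := isLocalHom_anStalk f x
  have hτ : ∀ i, ∃ τ, anStalk f x (cY.pull τ) = c.pull (polyHom c.n (MvPolynomial.X i)) := by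
    intro i
    obtain ⟨b, hb⟩ := h (c.toStalk (c.s i))
    obtain ⟨τ, rfl⟩ := cY.pull_surjective b
    exact ⟨τ, by rw [hb, ← c.cmp_toStalk, MvPolynomial.aeval_X]⟩
  choose τ hτ using hτ
  have hτ0 : ∀ i, value _ (τ i) = 0 := by
    intro i
    rw [← mem_maximalIdeal_iff, IsLocalRing.mem_maximalIdeal, mem_nonunits_iff]
    intro hu
    have h2 : IsUnit (polyHom c.n (MvPolynomial.X i)) :=
      isUnit_of_map_unit c.pull _ (hτ i ▸ (hu.map cY.pull).map (anStalk f x))
    rw [isUnit_iff, polyHom_apply, value_mk] at h2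
    simp at h2
  choose t ht hte using fun i => exists_mk (τ i)
  let φ : (Fin cY.n → ℂ) → (Fin c.n → ℂ) := fun z i => t i z
  have hφ : ∀ᶠ z in 𝓝 (0 : Fin cY.n → ℂ), DifferentiableAt ℂ φ z :=
    (eventually_all.mpr fun i => ht i).mono fun z hz => differentiableAt_pi.mpr hz
  have hφ0 : φ 0 = 0 := funext fun i => by
    have h2 := hτ0 i
    rwa [← hte i, value_mk] at h2
  haveI : IsLocalHom (comp φ hφ hφ0) := by
    refine ⟨fun g hg => ?_⟩
    obtain ⟨G, hG, rfl⟩ := exists_mk g
    rw [isUnit_iff] at hg ⊢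
    intro h0
    refine hg ?_
    rw [value_mk] at h0
    change G (φ 0) = 0
    rw [hφ0]; exact h0
  have key : ((anStalk f x).comp cY.pull).comp (comp φ hφ hφ0) = c.pull := by
    refine hom_ext_polyHom _ _ fun p => ?_
    induction p using MvPolynomial.induction_on with
    | C r =>
      have e1 : comp φ hφ hφ0 (polyHom c.n (MvPolynomial.C r)) = polyHom cY.n (MvPolynomial.C r) := by
        rw [polyHom_apply, polyHom_apply]
        refine (comp_mk φ hφ hφ0 _ _ ((isHolNear_const r).congr (Eventually.of_forall fun z => by simp))).trans ?_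
        rw [mk_eq_mk]
        exact Eventually.of_forall fun z => by simp
      rw [RingHom.comp_apply, RingHom.comp_apply, e1, cY.pull_polyHom, c.pull_polyHom,
        show anStalk f x (cmp _ _) = cmp x (algStalk f x _) from RingHom.congr_fun (anStalk_cmp f x) _]
      refine congrArg _ ?_
      obtain ⟨W, hW, hxW, hWle⟩ := exists_isAffineOpen_mem_and_subset (x := x.pt)
        (U := c.U ⊓ f ⁻¹ᵁ cY.U) ⟨c.hx, cY.hx⟩
      rw [algStalk_germ f x cY.hx hxW (hWle.trans inf_le_right), MvPolynomial.aeval_C, MvPolynomial.aeval_C,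
        show f.appLE cY.U W _ (algebraMap ℂ _ r) = algebraMap ℂ _ r from (pullAlg f cY.U W _).commutes r,
        ← X.presheaf.germ_res_apply (homOfLE (hWle.trans inf_le_left)) x.pt hxW (algebraMap ℂ Γ(X, c.U) r)]
      exact congrArg _ (map_strU (hWle.trans inf_le_left) r).symm
    | add p q hp hq => simp only [map_add, hp, hq]
    | mul_X p i hp =>
      rw [map_mul (polyHom c.n), map_mul, map_mul, hp]
      congr 1
      rw [RingHom.comp_apply, RingHom.comp_apply, ← hτ i]
      refine congrArg _ (congrArg _ ?_)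
      rw [polyHom_apply, ← hte i]
      refine (comp_mk φ hφ hφ0 _ _ ((ht i).congr (Eventually.of_forall fun z => by simp [φ]))).trans ?_
      rw [mk_eq_mk]
      exact Eventually.of_forall fun z => by simp [φ]
  intro b
  obtain ⟨g, rfl⟩ := c.pull_surjective b
  exact ⟨cY.pull (comp φ hφ hφ0 g), RingHom.congr_fun key g⟩

/-- Simple roots with the same residue coincide. -/
theorem root_unique {S : Type*} [CommRing S] [IsLocalRing S] (P : S[X]) {a b : S}
    (ha : P.eval a = 0) (hb : P.eval b = 0) (hd : IsUnit (P.derivative.eval a))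
    (hab : b - a ∈ maximalIdeal S) : b = a := by
  obtain ⟨k, hk⟩ := Polynomial.binomExpansion P a (b - a)
  rw [add_sub_cancel, ha, hb] at hk
  have hu : IsUnit (P.derivative.eval a + k * (b - a)) := by
    by_contra hn
    rw [← mem_nonunits_iff, ← IsLocalRing.mem_maximalIdeal] at hn
    exact (IsLocalRing.notMem_maximalIdeal.mpr hd) ((add_mem_cancel_right (Ideal.mul_mem_left _ k hab)).mp hn)
  have h2 : (b - a) * (P.derivative.eval a + k * (b - a)) = 0 := by linear_combination -hk
  exact sub_eq_zero.mp (hu.mul_left_eq_zero.mp h2)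

omit [IsReduced X] [IsReduced Y] in
/-- Algebraic germs are pulled back from analytic germs along an étale map. -/
theorem cmp_mem_range [Etale f] (x : An.Pts X) (a : X.presheaf.stalk x.pt) :
    cmp x a ∈ (anStalk f x).range := by
  haveI := isLocalHom_anStalk f x
  obtain ⟨cY⟩ := nonempty_chart (An.Pts.map f x)
  haveI := cY.isLocalHom_pull
  obtain ⟨U, hU, hxU, hle⟩ := exists_isAffineOpen_mem_and_subset (x := x.pt) (U := f ⁻¹ᵁ cY.U) cY.hx
  let _ : Algebra Γ(Y, cY.U) Γ(X, U) := (f.appLE cY.U U hle).hom.toAlgebra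
  haveI : Algebra.Etale Γ(Y, cY.U) Γ(X, U) := f.etale_appLE cY.hU hU hle
  haveI : (primeAt x.pt hxU).IsPrime := inferInstance
  obtain ⟨g, hg, hst⟩ := Algebra.IsEtaleAt.exists_isStandardEtale (R := Γ(Y, cY.U)) (primeAt x.pt hxU)
  rw [mem_primeAt, not_not] at hg
  have hD : IsAffineOpen (X.basicOpen g) := hU.basicOpen g
  have hDle : X.basicOpen g ≤ f ⁻¹ᵁ cY.U := (X.basicOpen_le g).trans hle
  let _ : Algebra Γ(Y, cY.U) Γ(X, X.basicOpen g) := (f.appLE cY.U (X.basicOpen g) hDle).hom.toAlgebra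
  haveI := hU.isLocalization_basicOpen g
  haveI : IsScalarTower Γ(Y, cY.U) Γ(X, U) Γ(X, X.basicOpen g) := .of_algebraMap_eq' (by
    change (f.appLE cY.U (X.basicOpen g) hDle).hom =
      (X.presheaf.map (homOfLE (X.basicOpen_le g)).op).hom.comp (f.appLE cY.U U hle).hom
    rw [← CommRingCat.hom_comp, Scheme.Hom.appLE_map])
  haveI : Algebra.IsStandardEtale Γ(Y, cY.U) Γ(X, X.basicOpen g) :=
    .of_equiv ((IsLocalization.algEquiv (Submonoid.powers g) (Localization.Away g)
      Γ(X, X.basicOpen g)).restrictScalars Γ(Y, cY.U))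
  let S : StandardEtalePresentation Γ(Y, cY.U) Γ(X, X.basicOpen g) :=
    Algebra.IsStandardEtale.nonempty_standardEtalePresentation.some
  let γ : Γ(X, X.basicOpen g) →+* St x := (cmp x).comp (X.presheaf.germ (X.basicOpen g) x.pt hg).hom
  let γY : Γ(Y, cY.U) →+* St (An.Pts.map f x) := (cmp _).comp cY.toStalk
  have hγ : (anStalk f x).comp γY = γ.comp (algebraMap Γ(Y, cY.U) Γ(X, X.basicOpen g)) := by
    refine RingHom.ext fun r => ?_
    change anStalk f x (cmp _ (cY.toStalk r)) = cmp x (X.presheaf.germ (X.basicOpen g) x.pt hg (f.appLE _ _ hDle r))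
    rw [show anStalk f x (cmp _ (cY.toStalk r)) = cmp x (algStalk f x (cY.toStalk r)) from
      RingHom.congr_fun (anStalk_cmp f x) _, algStalk_germ f x cY.hx hg hDle r]
  let c₀ : ℂ := toHom x (X.basicOpen g) hg S.x
  let ev : Γ(Y, cY.U) →+* ℂ := (toHom (An.Pts.map f x) cY.U cY.hx).toRingHom
  have hev : ev = (toHom x (X.basicOpen g) hg).toRingHom.comp (algebraMap Γ(Y, cY.U) Γ(X, X.basicOpen g)) := by
    refine RingHom.ext fun r => ?_
    exact congr($(toHom_map f x hDle hg cY.hx) r)
  have hevp : ∀ r : Γ(Y, cY.U)[X], (r.map ev).eval c₀ = toHom x (X.basicOpen g) hg (aeval S.x r) := by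
    intro r
    rw [hev, Polynomial.eval_map, aeval_def]
    exact (Polynomial.hom_eval₂ r _ (toHom x (X.basicOpen g) hg).toRingHom S.x).symm
  -- lift the polynomial to the ring of germs
  have hlift : S.f.map γY ∈ Polynomial.lifts cY.pull := by
    rw [Polynomial.lifts_iff_coeff_lifts]; exact fun i => cY.pull_surjective _
  obtain ⟨P, hPmap, -, hPm⟩ := Polynomial.lifts_and_natDegree_eq_and_monic hlift (S.monic_f.map γY)
  have hPv : P.map (value _) = S.f.map ev := by
    ext i
    rw [coeff_map, coeff_map]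
    refine cY.value_eq _ _ ?_
    have := congr(Polynomial.coeff $hPmap i)
    rwa [coeff_map, coeff_map] at this
  obtain ⟨s, hs, hs0⟩ := exists_root_hol P hPm c₀
    (by rw [hPv, hevp, S.hasMap.1, map_zero])
    (by rw [hPv, derivative_map, hevp]; exact (S.hasMap.isUnit_derivative_f.map (toHom x (X.basicOpen g) hg)).ne_zero)
  -- the image of the root is the germ of the generator
  have hroot1 : (S.f.map (γ.comp (algebraMap Γ(Y, cY.U) Γ(X, X.basicOpen g)))).eval (anStalk f x (cY.pull s)) = 0 := by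
    rw [← hγ, ← Polynomial.map_map, ← hPmap, Polynomial.eval_map_apply, Polynomial.eval_map_apply, hs,
      map_zero, map_zero]
  have hroot2 : ∀ r : Γ(Y, cY.U)[X],
      (r.map (γ.comp (algebraMap Γ(Y, cY.U) Γ(X, X.basicOpen g)))).eval (γ S.x) = γ (aeval S.x r) := by
    intro r
    rw [Polynomial.eval_map, aeval_def, Polynomial.hom_eval₂]
  have hgen : anStalk f x (cY.pull s) = γ S.x := by
    refine root_unique (S.f.map (γ.comp (algebraMap Γ(Y, cY.U) Γ(X, X.basicOpen g))))
      (by rw [hroot2, S.hasMap.1, map_zero]) hroot1 ?_ ?_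
    · rw [derivative_map, hroot2]; exact S.hasMap.isUnit_derivative_f.map γ
    · have h1 : anStalk f x (cY.pull s) - γ (algebraMap ℂ _ c₀) ∈ maximalIdeal (St x) := by
        have hc : anStalk f x (cY.pull (polyHom cY.n (MvPolynomial.C c₀))) = γ (algebraMap ℂ _ c₀) := by
          rw [cY.pull_polyHom, MvPolynomial.aeval_C]
          refine (RingHom.congr_fun hγ (algebraMap ℂ Γ(Y, cY.U) c₀)).trans ?_
          exact congrArg γ ((pullAlg f cY.U (X.basicOpen g) hDle).commutes c₀)
        rw [← hc, ← map_sub, ← map_sub]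
        refine IsLocalRing.map_maximalIdeal_le (anStalk f x) (Ideal.mem_map_of_mem _ ?_)
        refine IsLocalRing.map_maximalIdeal_le cY.pull (Ideal.mem_map_of_mem _ ?_)
        rw [mem_maximalIdeal_iff, map_sub, hs0, polyHom_apply, value_mk]
        simp
      have h2 : γ S.x - γ (algebraMap ℂ _ c₀) ∈ maximalIdeal (St x) := by
        rw [← map_sub, ← map_maximalIdeal_cmp]
        refine Ideal.mem_map_of_mem (cmp x) ?_
        rw [IsLocalRing.mem_maximalIdeal, mem_nonunits_iff, ← X.mem_basicOpen _ x.pt hg,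
          mem_basicOpen_iff x hg, ← toHom_apply x _ hg, map_sub, AlgHom.commutes]
        simp [c₀]
      have := sub_mem h1 h2
      rwa [sub_sub_sub_cancel_right] at this
  -- units
  have hinv : ∀ u b : St x, u ∈ (anStalk f x).range → IsUnit u → b * u ∈ (anStalk f x).range →
      b ∈ (anStalk f x).range := by
    rintro _ b ⟨u₀, rfl⟩ hu ⟨v, hv⟩
    obtain ⟨w, hw⟩ := isUnit_of_map_unit (anStalk f x) u₀ hu
    refine ⟨v * (w⁻¹ : (St (An.Pts.map f x))ˣ), ?_⟩
    rw [map_mul, hv, mul_assoc, ← map_mul, ← hw, Units.mul_inv, map_one, mul_one]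
  have hpoly : ∀ r : Γ(Y, cY.U)[X], γ (aeval S.x r) ∈ (anStalk f x).range := fun r => by
    rw [← hroot2, ← hgen, ← hγ, ← Polynomial.map_map, Polynomial.eval_map_apply]
    exact ⟨_, rfl⟩
  have hsec : ∀ b : Γ(X, X.basicOpen g), γ b ∈ (anStalk f x).range := by
    intro b
    obtain ⟨r, k, hk⟩ := S.exists_mul_aeval_x_g_pow_eq_aeval_x b
    refine hinv (γ (aeval S.x S.g ^ k)) (γ b) ?_ ((S.hasMap.2.pow k).map γ) ?_
    · rw [map_pow]; exact pow_mem (hpoly _) k
    · rw [← map_mul, hk]; exact hpoly r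
  let _ := TopCat.Presheaf.algebra_section_stalk X.presheaf (⟨x.pt, hg⟩ : (X.basicOpen g : X.Opens))
  haveI := hD.isLocalization_stalk ⟨x.pt, hg⟩
  obtain ⟨⟨u, v⟩, he⟩ := IsLocalization.surj (hD.primeIdealOf ⟨x.pt, hg⟩).asIdeal.primeCompl a
  change a * X.presheaf.germ (X.basicOpen g) x.pt hg v.1 = X.presheaf.germ (X.basicOpen g) x.pt hg u at he
  have hv : IsUnit (X.presheaf.germ (X.basicOpen g) x.pt hg v.1) :=
    IsLocalization.map_units (M := (hD.primeIdealOf ⟨x.pt, hg⟩).asIdeal.primeCompl) (X.presheaf.stalk x.pt) v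
  refine hinv (γ v.1) (cmp x a) (hsec v.1) (hv.map (cmp x)) ?_
  rw [show γ v.1 = cmp x (X.presheaf.germ (X.basicOpen g) x.pt hg v.1) from rfl, ← map_mul, he]
  exact hsec u

theorem bijective_anStalk [Etale f] (x : An.Pts X) : Function.Bijective (anStalk f x) := by
  refine ⟨?_, surjective_anStalk f x (cmp_mem_range f x)⟩
  haveI := isLocalHom_anStalk f x
  let _ : Algebra (St (An.Pts.map f x)) (St x) := (anStalk f x).toAlgebra
  haveI : IsLocalHom (algebraMap (St (An.Pts.map f x)) (St x)) := isLocalHom_anStalk f x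
  haveI : Module.Flat (St (An.Pts.map f x)) (St x) := (flat_anStalk_iff f x).mpr (Flat.stalkMap f x.pt)
  haveI : Module.FaithfullyFlat (St (An.Pts.map f x)) (St x) := Module.FaithfullyFlat.of_flat_of_isLocalHom
  exact FaithfulSMul.algebraMap_injective (St (An.Pts.map f x)) (St x)

theorem etale_of_bijective (h : ∀ x : An.Pts X, Function.Bijective (anStalk f x)) : Etale f := by
  haveI := locallyOfFiniteType_map f
  haveI := locallyOfFinitePresentation_map f
  haveI : Flat f := flat_of_pts f fun x =>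
    (flat_anStalk_iff f x).mp (RingHom.Flat.of_bijective (h x))
  haveI : FormallyUnramified f := formallyUnramified_of_pts f fun x => by
    refine (map_maximal_anStalk_iff f x).mp ?_
    exact IsLocalRing.map_maximalIdeal_of_surjective _ (h x).2
  exact Etale.of_formallyUnramified_of_flat f

end maps

end

end Groth.Agent.AnGerm
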