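import Groth.Agent.AnGerm.Compare
import Groth.Agent.HensSchLib.Mods
import Mathlib.CategoryTheory.Functor.ReflectsIso.Balanced

/-!
Exactness and faithfulness of analytification.
-/

set_option autoImplicit false
set_option backward.isDefEq.respectTransparency false
set_option backward.isDefEq.respectTransparency.types false
set_option linter.style.haveILetI false

open CategoryTheory Limits AlgebraicGeometry TopologicalSpace Opposite

namespace Groth.Agent.AnGerm

noncomputable section

open Groth.Agent.AnLib

variable (X : Scheme.{0}) [X.Over An.SC] [LocallyOfFiniteType (X ↘ An.SC)] [IsReduced X]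

/-- The comorphism of `X^an → X`. -/
def anC : X.sheaf ⟶ ((An.baseF X).sheafPushforwardContinuous CommRingCat.{0}
    (An.JX X) (An.JA X)).obj (An.hol X) :=
  ⟨(An.anToScheme X).c⟩

lemma flat_smap (x : An.Pts X) :
    (RSStalk.smap (O_X := An.hol X) (O_Y := X.sheaf) (An.anToScheme X).base (anC X) x).hom.Flat :=
  flat_cmp x

theorem preservesFiniteLimits_analytify : PreservesFiniteLimits (An.analytify X) :=
  HensSchLib.preservesFiniteLimits_pull (O_X := An.hol X) (O_Y := X.sheaf) (An.anToScheme X).base (anC X)
    (flat_smap X)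

omit [LocallyOfFiniteType (X ↘ An.SC)] [IsReduced X] in
theorem preservesFiniteColimits_analytify : PreservesFiniteColimits (An.analytify X) :=
  haveI : PreservesColimitsOfSize.{0, 0} (An.analytify X) := (An.analytifyAdj X).leftAdjoint_preservesColimits
  PreservesColimitsOfSize.preservesFiniteColimits _

theorem eq_zero_of_analytify {M N : X.Modules} (φ : M ⟶ N) (h : (An.analytify X).map φ = 0) : φ = 0 := by
  have hst : ∀ x : An.Pts X, (RSStalk.st X.sheaf x.pt).map φ = 0 := fun x => by
    haveI : IsLocalRing ((RSStalk.rg (X := An.top X) (An.hol X)).stalk x) := isLocalRing_St x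
    haveI : IsLocalRing ((RSStalk.rg (X := (X : TopCat.{0})) X.sheaf).stalk ((An.anToScheme X).base x)) :=
      inferInstanceAs (IsLocalRing (X.presheaf.stalk x.pt))
    exact HensSchLib.stalk_map_eq_zero_of_pull (O_X := An.hol X) (O_Y := X.sheaf)
      (An.anToScheme X).base (anC X) x (flat_smap X x) (hloc := isLocalHom_cmp x) φ h
  apply SheafOfModules.hom_ext
  apply PresheafOfModules.hom_ext
  intro U
  apply ModuleCat.hom_ext
  refine LinearMap.ext fun s => ?_
  let NS : TopCat.Sheaf AddCommGrpCat.{0} X := (SheafOfModules.toSheaf X.ringCatSheaf).obj N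
  refine TopCat.Presheaf.section_ext NS U.unop _ _ fun p hp => ?_
  haveI := jacobson X
  by_contra hne
  have key : ∃ W : X.Opens, W ≤ U.unop ∧ p ∉ W ∧ ∀ x : An.Pts X, x.pt ∈ U.unop → x.pt ∈ W := by
    let S : Set X := {q | ∃ hq : q ∈ U.unop, NS.presheaf.germ U.unop q hq ((φ.val.app U).hom s) = 0}
    have hS : IsOpen S := isOpen_iff_forall_mem_open.mpr fun q ⟨hq, e⟩ => by
      obtain ⟨W, hW, i, _, e'⟩ := NS.presheaf.germ_eq q hq hq ((φ.val.app U).hom s) 0
        (e.trans (map_zero _).symm)
      refine ⟨W, fun r hr => ⟨i.le hr, ?_⟩, W.2, hW⟩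
      rw [← TopCat.Presheaf.germ_res_apply NS.presheaf i r hr, e', map_zero, map_zero]
    refine ⟨⟨S, hS⟩, fun q hq => hq.1, fun hp' => hne ?_, fun x hx => ⟨hx, ?_⟩⟩
    · obtain ⟨_, e⟩ := hp'
      exact e.trans (map_zero _).symm
    · have e1 := LinearMap.congr_fun (congrArg ModuleCat.Hom.hom (hst x))
        (Groth.Agent.KFlat.pgerm M.val x.pt U.unop hx s)
      exact (RSStalk.pstMap_germ (O := X.sheaf) φ.val x.pt hx s).symm.trans e1
  obtain ⟨W, hWU, hpW, hW⟩ := key
  obtain ⟨x, hx⟩ := exists_pt_mem (X := X) (Z := (U.unop : Set X) ∩ (W : Set X)ᶜ) ⟨p, hp, hpW⟩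
    (U.unop.2.isLocallyClosed.inter W.2.isClosed_compl.isLocallyClosed)
  exact hx.2 (hW x hx.1)

theorem faithful_analytify : (An.analytify X).Faithful := by
  haveI := preservesFiniteColimits_analytify X
  haveI : PreservesBinaryBiproducts (An.analytify X) :=
    preservesBinaryBiproducts_of_preservesBinaryCoproducts _
  haveI : (An.analytify X).Additive := Functor.additive_of_preservesBinaryBiproducts _
  refine ⟨fun {M N a b} h => sub_eq_zero.mp (eq_zero_of_analytify X _ ?_)⟩
  rw [Functor.map_sub, h, sub_self]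

theorem reflectsIsomorphisms_analytify : (An.analytify X).ReflectsIsomorphisms := by
  haveI := faithful_analytify X
  infer_instance

end

end Groth.Agent.AnGerm
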