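import Groth.Agent.AnGerm.CircleInt
import Mathlib.Order.Filter.Germ.Basic
import Mathlib.Topology.Germ
import Mathlib.Analysis.Calculus.FDeriv.Pow
import Mathlib.Analysis.Calculus.Deriv.Inv
import Mathlib.RingTheory.MvPolynomial.Ideal
import Mathlib.RingTheory.LocalRing.MaximalIdeal.Basic

/-!
The ring of germs at the origin of holomorphic functions.
-/

set_option autoImplicit false

open Filter Topology Metric Asymptotics

namespace Groth.Agent.AnGerm

noncomputable section

variable {E F : Type*} [NormedAddCommGroup E] [NormedSpace ℂ E]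
  [NormedAddCommGroup F] [NormedSpace ℂ F]

/-- Differentiable near the origin. -/
def IsHolNear (f : E → ℂ) : Prop := ∀ᶠ z in 𝓝 (0 : E), DifferentiableAt ℂ f z

lemma isHolNear_const (c : ℂ) : IsHolNear fun _ : E => c := by
  exact Eventually.of_forall fun z => differentiableAt_const c

lemma IsHolNear.add {f g : E → ℂ} (hf : IsHolNear f) (hg : IsHolNear g) :
    IsHolNear (fun z => f z + g z) := (hf.and hg).mono fun _ h => h.1.add h.2

lemma IsHolNear.mul {f g : E → ℂ} (hf : IsHolNear f) (hg : IsHolNear g) :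
    IsHolNear (fun z => f z * g z) := (hf.and hg).mono fun _ h => h.1.mul h.2

lemma IsHolNear.neg {f : E → ℂ} (hf : IsHolNear f) : IsHolNear (fun z => -f z) :=
  hf.mono fun _ h => h.neg

lemma IsHolNear.congr {f g : E → ℂ} (hf : IsHolNear f) (h : f =ᶠ[𝓝 0] g) : IsHolNear g :=
  (hf.and h.eventually_nhds).mono fun _ hz => hz.1.congr_of_eventuallyEq (hz.2.mono fun _ e => e.symm)

variable (E) in
/-- The subring of germs of holomorphic functions. -/
def holSubring : Subring (Germ (𝓝 (0 : E)) ℂ) where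
  carrier := {g | ∃ f : E → ℂ, IsHolNear f ∧ (f : Germ (𝓝 (0 : E)) ℂ) = g}
  one_mem' := ⟨fun _ => 1, isHolNear_const 1, rfl⟩
  zero_mem' := ⟨fun _ => 0, isHolNear_const 0, rfl⟩
  add_mem' := by rintro _ _ ⟨f, hf, rfl⟩ ⟨g, hg, rfl⟩; exact ⟨_, hf.add hg, rfl⟩
  mul_mem' := by rintro _ _ ⟨f, hf, rfl⟩ ⟨g, hg, rfl⟩; exact ⟨_, hf.mul hg, rfl⟩
  neg_mem' := by rintro _ ⟨f, hf, rfl⟩; exact ⟨_, hf.neg, rfl⟩

variable (E) in
/-- Germs of holomorphic functions at the origin. -/
abbrev Hol : Type _ := ↥(holSubring E)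

/-- The germ of a function. -/
def mk (f : E → ℂ) (hf : IsHolNear f) : Hol E := ⟨f, f, hf, rfl⟩

lemma exists_mk (g : Hol E) : ∃ (f : E → ℂ) (hf : IsHolNear f), mk f hf = g := by
  obtain ⟨g, f, hf, rfl⟩ := g
  exact ⟨f, hf, rfl⟩

@[elab_as_elim]
lemma hol_induction {P : Hol E → Prop} (g : Hol E) (h : ∀ f hf, P (mk f hf)) : P g := by
  obtain ⟨f, hf, rfl⟩ := exists_mk g; exact h f hf

lemma mk_eq_mk {f g : E → ℂ} {hf : IsHolNear f} {hg : IsHolNear g} :
    mk f hf = mk g hg ↔ f =ᶠ[𝓝 0] g := by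
  rw [Subtype.ext_iff]; exact Germ.coe_eq

lemma mk_eq_zero {f : E → ℂ} {hf : IsHolNear f} : mk f hf = 0 ↔ ∀ᶠ z in 𝓝 0, f z = 0 := by
  rw [Subtype.ext_iff]; exact Germ.coe_eq

lemma mk_add {f g : E → ℂ} (hf : IsHolNear f) (hg : IsHolNear g) :
    mk f hf + mk g hg = mk _ (hf.add hg) := rfl

lemma mk_mul {f g : E → ℂ} (hf : IsHolNear f) (hg : IsHolNear g) :
    mk f hf * mk g hg = mk _ (hf.mul hg) := rfl

lemma mk_neg {f : E → ℂ} (hf : IsHolNear f) : -mk f hf = mk _ hf.neg := rfl

variable (E) in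
/-- Constants. -/
def constHom : ℂ →+* Hol E where
  toFun c := mk _ (isHolNear_const c)
  map_one' := rfl
  map_zero' := rfl
  map_add' _ _ := rfl
  map_mul' _ _ := rfl

instance : Algebra ℂ (Hol E) := (constHom E).toAlgebra

lemma algebraMap_eq (c : ℂ) : algebraMap ℂ (Hol E) c = mk _ (isHolNear_const c) := rfl

variable (E) in
/-- The value at the origin. -/
def value : Hol E →+* ℂ := Filter.Germ.valueRingHom.comp (holSubring E).subtype

lemma value_mk (f : E → ℂ) (hf : IsHolNear f) : value E (mk f hf) = f 0 := rfl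

lemma isUnit_iff (g : Hol E) : IsUnit g ↔ value E g ≠ 0 := by
  refine ⟨fun h => (h.map (value E)).ne_zero, ?_⟩
  obtain ⟨f, hf, rfl⟩ := exists_mk g
  intro h0
  have hne : ∀ᶠ z in 𝓝 (0 : E), f z ≠ 0 := hf.self_of_nhds.continuousAt.eventually_ne h0
  have hinv : IsHolNear fun z => (f z)⁻¹ := (hf.and hne).mono fun z hz => hz.1.inv hz.2
  refine IsUnit.of_mul_eq_one (mk _ hinv) ?_
  rw [mk_mul, show (1 : Hol E) = mk _ (isHolNear_const 1) from rfl, mk_eq_mk]
  exact hne.mono fun z hz => mul_inv_cancel₀ hz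

instance : Nontrivial (Hol E) := (value E).domain_nontrivial

instance : IsLocalRing (Hol E) := .of_nonunits_add fun a b ha hb => by
  simp only [mem_nonunits_iff, isUnit_iff, ne_eq, not_not] at ha hb ⊢
  rw [map_add, ha, hb, add_zero]

lemma mem_maximalIdeal_iff (g : Hol E) : g ∈ IsLocalRing.maximalIdeal (Hol E) ↔ value E g = 0 := by
  rw [IsLocalRing.mem_maximalIdeal, mem_nonunits_iff, isUnit_iff, not_not]

lemma maximalIdeal_eq : IsLocalRing.maximalIdeal (Hol E) = RingHom.ker (value E) :=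
  Ideal.ext fun g => (mem_maximalIdeal_iff g).trans RingHom.mem_ker.symm

/-- Composition with a map holomorphic near the origin and fixing it. -/
def comp (φ : E → F) (hφ : ∀ᶠ z in 𝓝 0, DifferentiableAt ℂ φ z) (h0 : φ 0 = 0) : Hol F →+* Hol E where
  toFun g := ⟨(g.1).compTendsto φ (by have := hφ.self_of_nhds.continuousAt.tendsto; rwa [h0] at this), by
    obtain ⟨g, f, hf, rfl⟩ := g
    refine ⟨f ∘ φ, ?_, rfl⟩
    have hev : ∀ᶠ z in 𝓝 (0 : E), DifferentiableAt ℂ f (φ z) :=
      (hφ.self_of_nhds.continuousAt).eventually (by rw [h0]; exact hf)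
    exact (hφ.and hev).mono fun z hz => hz.2.comp z hz.1⟩
  map_one' := rfl
  map_zero' := rfl
  map_add' := by
    rintro ⟨_, f, _, rfl⟩ ⟨_, g, _, rfl⟩; rfl
  map_mul' := by
    rintro ⟨_, f, _, rfl⟩ ⟨_, g, _, rfl⟩; rfl

lemma comp_mk (φ : E → F) (hφ : ∀ᶠ z in 𝓝 0, DifferentiableAt ℂ φ z) (h0 : φ 0 = 0) (f : F → ℂ)
    (hf : IsHolNear f) (hfφ : IsHolNear (fun z => f (φ z))) :
    comp φ hφ h0 (mk f hf) = mk _ hfφ := rfl

lemma isHolNear_clm (l : E →L[ℂ] ℂ) : IsHolNear l := Eventually.of_forall fun _ => l.differentiableAt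

/-- Restriction to the slice `t = 0` and division by `t`. -/
theorem exists_div_fst [FiniteDimensional ℂ F] {f : ℂ × F → ℂ} (hf : IsHolNear f) :
    ∃ H : ℂ × F → ℂ, IsHolNear H ∧ ∀ᶠ p in 𝓝 0, f p = f (0, p.2) + p.1 * H p := by
  obtain ⟨ρ, hρ, hb⟩ := Metric.eventually_nhds_iff_ball.mp hf
  let r := ρ / 2
  have hr : 0 < r := by positivity
  have hin : ∀ ζ ∈ closedBall (0 : ℂ) r, ∀ w ∈ ball (0 : F) r, (ζ, w) ∈ ball (0 : ℂ × F) ρ := by
    intro ζ hζ w hw
    simp only [mem_ball_zero_iff, mem_closedBall_zero_iff] at hζ hw ⊢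
    rw [Prod.norm_def]
    exact max_lt (by simp only [r] at hζ; linarith) (by simp only [r] at hw; linarith)
  let G : (ℂ × F) × ℂ → ℂ := fun q => (f (q.2, q.1.2) - f (0, q.1.2)) / q.2 / (q.2 - q.1.1)
  let H : ℂ × F → ℂ := fun p => (2 * Real.pi * Complex.I : ℂ)⁻¹ * ∮ ζ in C(0, r), G (p, ζ)
  refine ⟨H, ?_, ?_⟩
  · filter_upwards [ball_mem_nhds (0 : ℂ × F) hr] with p hp
    refine (differentiableAt_circleIntegral (F := G) hr.le fun ζ hζ => ?_).const_mul _
    have hp' : p.1 ∈ ball (0 : ℂ) r ∧ p.2 ∈ ball (0 : F) r := by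
      rw [← Set.mem_prod, ball_prod_same]; exact hp
    have hnbhd : ∀ᶠ q in 𝓝 ((p, ζ) : (ℂ × F) × ℂ),
        (q.2, q.1.2) ∈ ball (0 : ℂ × F) ρ ∧ ((0 : ℂ), q.1.2) ∈ ball (0 : ℂ × F) ρ ∧ q.2 ≠ 0 ∧ q.2 ≠ q.1.1 := by
      refine (Tendsto.eventually_mem (by fun_prop : ContinuousAt (fun q : (ℂ × F) × ℂ => (q.2, q.1.2)) (p, ζ))
        (isOpen_ball.mem_nhds (hin ζ (sphere_subset_closedBall hζ) _ hp'.2))).and
        ((Tendsto.eventually_mem (by fun_prop : ContinuousAt (fun q : (ℂ × F) × ℂ => ((0 : ℂ), q.1.2)) (p, ζ))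
        (isOpen_ball.mem_nhds (hin 0 (mem_closedBall_self hr.le) _ hp'.2))).and ?_)
      refine ((continuous_snd.continuousAt (x := (p, ζ))).eventually_ne (ne_zero_of_mem_sphere hr.ne' ⟨ζ, hζ⟩)).and ?_
      have hne : ζ ≠ p.1 := fun e => (mem_ball_zero_iff.mp hp'.1).ne (e ▸ mem_sphere_zero_iff_norm.mp hζ)
      have := (continuous_snd.sub (continuous_fst.comp continuous_fst) : Continuous
        fun q : (ℂ × F) × ℂ => q.2 - q.1.1).continuousAt.eventually_ne (x := (p, ζ)) (sub_ne_zero.mpr hne)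
      exact this.mono fun q hq => sub_ne_zero.mp hq
    refine hnbhd.mono fun q ⟨h1, h2, h3, h4⟩ => ?_
    have d1 : DifferentiableAt ℂ (fun q : (ℂ × F) × ℂ => f (q.2, q.1.2)) q :=
      (hb _ h1).comp q (f := fun q : (ℂ × F) × ℂ => (q.2, q.1.2)) (by fun_prop)
    have d2 : DifferentiableAt ℂ (fun q : (ℂ × F) × ℂ => f ((0 : ℂ), q.1.2)) q :=
      (hb _ h2).comp q (f := fun q : (ℂ × F) × ℂ => ((0 : ℂ), q.1.2)) (by fun_prop)
    simp only [G, div_eq_mul_inv]
    exact ((d1.sub d2).mul (DifferentiableAt.inv (by fun_prop) h3)).mul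
      (DifferentiableAt.inv (by fun_prop) (sub_ne_zero.mpr h4))
  · filter_upwards [ball_mem_nhds (0 : ℂ × F) hr] with p hp
    obtain ⟨hp1, hp2⟩ : p.1 ∈ ball (0 : ℂ) r ∧ p.2 ∈ ball (0 : F) r := by
      rw [← Set.mem_prod, ball_prod_same]; exact hp
    have hg : DifferentiableOn ℂ (fun ζ => f (ζ, p.2)) (ball 0 ρ) := fun ζ hζ => by
      refine ((hb _ ?_).comp ζ (f := fun ζ : ℂ => (ζ, p.2)) (by fun_prop)).differentiableWithinAt
      simp only [mem_ball_zero_iff] at hζ hp2 ⊢
      rw [Prod.norm_def]; exact max_lt hζ (by simp only [r] at hp2; linarith)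
    have hd : DifferentiableOn ℂ (dslope (fun ζ => f (ζ, p.2)) 0) (ball 0 ρ) :=
      (Complex.differentiableOn_dslope (ball_mem_nhds _ hρ)).mpr hg
    have hC := (DifferentiableOn.diffContOnCl (s := ball (0:ℂ) r) (hd.mono ((closure_ball (0 : ℂ) hr.ne').subset.trans
        (closedBall_subset_ball (by simp only [r]; linarith))))).two_pi_i_inv_smul_circleIntegral_sub_inv_smul hp1
    have hG : ∀ ζ ∈ sphere (0 : ℂ) r, G (p, ζ) = (ζ - p.1)⁻¹ • dslope (fun ζ => f (ζ, p.2)) 0 ζ := by
      intro ζ hζ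
      rw [dslope_of_ne _ (ne_zero_of_mem_sphere hr.ne' ⟨ζ, hζ⟩), slope_def_field, smul_eq_mul]
      simp only [G, sub_zero]
      ring
    have e : H p = dslope (fun ζ => f (ζ, p.2)) 0 p.1 := by
      refine Eq.trans ?_ hC
      rw [smul_eq_mul]
      exact congrArg (fun J : ℂ => (2 * Real.pi * Complex.I : ℂ)⁻¹ * J)
        (circleIntegral.integral_congr hr.le hG)
    have := sub_smul_dslope (fun ζ => f (ζ, p.2)) 0 p.1
    simp only [sub_zero, smul_eq_mul] at this
    rw [e, this]; simp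

variable {n : ℕ}

/-- Polynomials as germs. -/
def polyHom (n : ℕ) : MvPolynomial (Fin n) ℂ →ₐ[ℂ] Hol (Fin n → ℂ) :=
  MvPolynomial.aeval fun i =>
    mk _ (isHolNear_clm (ContinuousLinearMap.proj (R := ℂ) (φ := fun _ : Fin n => ℂ) i))

lemma isHolNear_eval (p : MvPolynomial (Fin n) ℂ) :
    IsHolNear fun z : Fin n → ℂ => MvPolynomial.eval z p := by
  induction p using MvPolynomial.induction_on with
  | C c => simpa using isHolNear_const c
  | add p q hp hq => simpa using hp.add hq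
  | mul_X p j hp =>
    simpa using hp.mul (isHolNear_clm (ContinuousLinearMap.proj (R := ℂ) (φ := fun _ : Fin n => ℂ) j))

lemma polyHom_apply (p : MvPolynomial (Fin n) ℂ) : polyHom n p = mk _ (isHolNear_eval p) := by
  induction p using MvPolynomial.induction_on with
  | C c =>
    rw [polyHom, MvPolynomial.aeval_C, algebraMap_eq, mk_eq_mk]
    exact Eventually.of_forall fun z => by simp
  | add p q hp hq =>
    rw [map_add, hp, hq, mk_add, mk_eq_mk]
    exact Eventually.of_forall fun z => by simp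
  | mul_X p j hp =>
    rw [map_mul, hp, polyHom, MvPolynomial.aeval_X, mk_mul, mk_eq_mk]
    exact Eventually.of_forall fun z => by simp

/-- Hadamard's lemma. -/
theorem exists_hadamard : ∀ (n : ℕ) {f : (Fin n → ℂ) → ℂ}, IsHolNear f →
    ∃ H : Fin n → (Fin n → ℂ) → ℂ, (∀ i, IsHolNear (H i)) ∧
      ∀ᶠ z in 𝓝 0, f z = f 0 + ∑ i, z i * H i z := by
  intro n
  induction n with
  | zero =>
    intro f _
    exact ⟨Fin.elim0, fun i => i.elim0, Eventually.of_forall fun z => by
      rw [Subsingleton.elim z 0]; simp⟩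
  | succ n ih =>
    intro f hf
    let φ : (Fin (n + 1) → ℂ) → ℂ × (Fin n → ℂ) := fun z => (z 0, Fin.tail z)
    let ψ : ℂ × (Fin n → ℂ) → (Fin (n + 1) → ℂ) := fun p => Fin.cons p.1 p.2
    have hφ : Differentiable ℂ φ := by
      refine Differentiable.prodMk (by fun_prop) (differentiable_pi.mpr fun i => ?_)
      exact differentiable_apply i.succ
    have hψ : Differentiable ℂ ψ := differentiable_pi.mpr fun i => by
      cases i using Fin.cases with
      | zero => simp only [ψ, Fin.cons_zero]; fun_prop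
      | succ i => simp only [ψ, Fin.cons_succ]; fun_prop
    have hψ0 : ψ 0 = 0 := by ext i; cases i using Fin.cases <;> simp [ψ]
    have hφ0 : φ 0 = 0 := rfl
    have hfψ : IsHolNear fun p => f (ψ p) :=
      ((hψ 0).continuousAt.eventually (p := fun z => DifferentiableAt ℂ f z) (by rw [hψ0]; exact hf)).mono fun p hp => hp.comp p (hψ p)
    obtain ⟨K, hK, hKe⟩ := exists_div_fst hfψ
    have hslice : IsHolNear fun w : Fin n → ℂ => f (ψ (0, w)) := by
      have hc : Differentiable ℂ fun w : Fin n → ℂ => ψ (0, w) := hψ.comp (by fun_prop)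
      exact (hc.continuous.continuousAt.eventually (p := fun z => DifferentiableAt ℂ f z) (by simp only []; rw [show ψ (0, 0) = 0 from hψ0]; exact hf)).mono
        fun w hw => hw.comp w (hc w)
    obtain ⟨H, hH, hHe⟩ := ih hslice
    refine ⟨Fin.cons (fun z => K (φ z)) (fun i z => H i (Fin.tail z)), fun i => ?_, ?_⟩
    · cases i using Fin.cases with
      | zero =>
        simp only [Fin.cons_zero]
        exact (hφ.continuous.continuousAt.eventually (p := fun z => DifferentiableAt ℂ K z) (by rw [hφ0]; exact hK)).mono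
          fun z hz => hz.comp z (hφ z)
      | succ i =>
        simp only [Fin.cons_succ]
        exact ((continuous_snd.comp hφ.continuous).continuousAt (x := 0) |>.eventually
          (p := fun w => DifferentiableAt ℂ (H i) w) (hH i)).mono
          fun z hz => hz.comp z (f := fun z => Fin.tail z) ((hφ z).snd)
    · have e1 := hφ.continuous.continuousAt (x := 0) |>.eventually (by rw [hφ0]; exact hKe)
      have e2 := ((continuous_snd.comp hφ.continuous).continuousAt (x := 0)).eventually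
        (p := fun w => f (ψ (0, w)) = f (ψ (0, 0)) + ∑ i, w i * H i w) hHe
      filter_upwards [e1, e2] with z h1 h2
      rw [show ψ (φ z) = z from Fin.cons_self_tail z] at h1
      rw [Fin.sum_univ_succ, h1]
      change f (ψ (0, Fin.tail z)) + _ = _
      rw [show ((φ z).2) = Fin.tail z from rfl] at *
      simp only [Function.comp_apply] at h2
      rw [h2, show ψ (0, 0) = 0 from hψ0]
      simp only [Fin.cons_zero, Fin.cons_succ]
      simp only [φ, Fin.tail]
      ring

/-- The maximal ideal is generated by the coordinates. -/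
theorem maximalIdeal_eq_map : IsLocalRing.maximalIdeal (Hol (Fin n → ℂ)) =
    (MvPolynomial.idealOfVars (Fin n) ℂ).map (polyHom n) := by
  refine le_antisymm (fun g hg => ?_) ?_
  · obtain ⟨f, hf, rfl⟩ := exists_mk g
    rw [mem_maximalIdeal_iff, value_mk] at hg
    obtain ⟨H, hH, hHe⟩ := exists_hadamard n hf
    have hsum : ∀ s : Finset (Fin n), ∃ h : IsHolNear fun z => ∑ i ∈ s, z i * H i z,
        mk _ h = ∑ i ∈ s, polyHom n (MvPolynomial.X i) * mk _ (hH i) := by
      intro s
      induction s using Finset.induction_on with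
      | empty => exact ⟨by simpa using isHolNear_const 0, by
          rw [Finset.sum_empty, mk_eq_zero]; simp⟩
      | insert a s ha ih =>
        obtain ⟨h, e⟩ := ih
        have h' := ((isHolNear_eval (MvPolynomial.X a)).mul (hH a)).add h
        refine ⟨h'.congr (Eventually.of_forall fun z => by simp [Finset.sum_insert ha]), ?_⟩
        rw [Finset.sum_insert ha, ← e, polyHom_apply, mk_mul, mk_add, mk_eq_mk]
        exact Eventually.of_forall fun z => by simp [Finset.sum_insert ha]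
    obtain ⟨h, e⟩ := hsum Finset.univ
    rw [mk_eq_mk (hg := h) |>.mpr (hHe.mono fun z hz => by rw [hz, hg, zero_add]), e]
    exact Ideal.sum_mem _ fun i _ => Ideal.mul_mem_right _ _
      (Ideal.mem_map_of_mem _ (Ideal.subset_span ⟨i, rfl⟩))
  · rw [Ideal.map_le_iff_le_comap, MvPolynomial.idealOfVars, Ideal.span_le]
    rintro _ ⟨i, rfl⟩
    rw [SetLike.mem_coe, Ideal.mem_comap, mem_maximalIdeal_iff, polyHom_apply, value_mk]
    simp

/-- Taylor polynomials. -/
theorem exists_poly_sub_mem (g : Hol (Fin n → ℂ)) (k : ℕ) :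
    ∃ p : MvPolynomial (Fin n) ℂ, g - polyHom n p ∈ IsLocalRing.maximalIdeal (Hol (Fin n → ℂ)) ^ k := by
  induction k generalizing g with
  | zero => exact ⟨0, by simp⟩
  | succ k ih =>
    obtain ⟨p, hp⟩ := ih g
    rw [maximalIdeal_eq_map, ← Ideal.map_pow] at hp
    suffices h : ∀ x ∈ ((MvPolynomial.idealOfVars (Fin n) ℂ) ^ k).map (polyHom n),
        ∃ q, x - polyHom n q ∈ IsLocalRing.maximalIdeal (Hol (Fin n → ℂ)) ^ (k + 1) by
      obtain ⟨q, hq⟩ := h _ hp
      exact ⟨p + q, by rw [map_add, ← sub_sub]; exact hq⟩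
    intro x hx
    induction hx using Submodule.span_induction with
    | mem x hx =>
      obtain ⟨q, -, rfl⟩ := hx
      exact ⟨q, by simp⟩
    | zero => exact ⟨0, by simp⟩
    | add x y _ _ hx hy =>
      obtain ⟨q, hq⟩ := hx
      obtain ⟨q', hq'⟩ := hy
      exact ⟨q + q', by rw [map_add, add_sub_add_comm]; exact add_mem hq hq'⟩
    | smul a x hx' hx =>
      obtain ⟨q, hq⟩ := hx
      have hxk : x ∈ IsLocalRing.maximalIdeal (Hol (Fin n → ℂ)) ^ k := by
        rw [maximalIdeal_eq_map, ← Ideal.map_pow]; exact hx'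
      have ha : a - polyHom n (MvPolynomial.C (value _ a)) ∈ IsLocalRing.maximalIdeal _ := by
        rw [mem_maximalIdeal_iff, map_sub, polyHom_apply, value_mk]; simp
      refine ⟨MvPolynomial.C (value _ a) * q, ?_⟩
      rw [smul_eq_mul, map_mul, show a * x - polyHom n (MvPolynomial.C (value _ a)) * polyHom n q =
        (a - polyHom n (MvPolynomial.C (value _ a))) * x +
          polyHom n (MvPolynomial.C (value _ a)) * (x - polyHom n q) by ring]
      refine add_mem ?_ (Ideal.mul_mem_left _ _ hq)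
      rw [pow_succ']; exact Ideal.mul_mem_mul ha hxk

/-- Elements of the `k`th power of the maximal ideal are `O(‖z‖ ^ k)`. -/
theorem isBigO_of_mem_pow {k : ℕ} {f : E → ℂ} {hf : IsHolNear f}
    (h : mk f hf ∈ IsLocalRing.maximalIdeal (Hol E) ^ k) :
    f =O[𝓝 0] fun z => ‖z‖ ^ k := by
  suffices H : ∀ g ∈ IsLocalRing.maximalIdeal (Hol E) ^ k,
      ∀ f hf, mk f hf = g → f =O[𝓝 (0 : E)] fun z => ‖z‖ ^ k from H _ h f hf rfl
  clear h hf f
  induction k with
  | zero =>
    intro g _ f hf _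
    simp only [pow_zero]
    exact hf.self_of_nhds.continuousAt.isBigO_one ℝ
  | succ k ih =>
    intro g hg
    rw [pow_succ] at hg
    induction hg using Submodule.mul_induction_on' with
    | mem_mul_mem a ha b hb =>
      obtain ⟨fa, hfa, rfl⟩ := exists_mk a
      obtain ⟨fb, hfb, rfl⟩ := exists_mk b
      intro f hf e
      rw [mk_mul, mk_eq_mk] at e
      have hb0 : fb 0 = 0 := (mem_maximalIdeal_iff _).mp hb
      have hb' : fb =O[𝓝 0] fun z => ‖z‖ := by
        have := hfb.self_of_nhds.hasFDerivAt.isBigO_sub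
        simpa [hb0] using this.norm_right
      refine IsBigO.congr' ((ih _ ha fa hfa rfl).mul hb') e.symm ?_
      exact Eventually.of_forall fun z => (pow_succ _ _).symm
    | add a _ b _ ha hb =>
      obtain ⟨fa, hfa, rfl⟩ := exists_mk a
      obtain ⟨fb, hfb, rfl⟩ := exists_mk b
      intro f hf e
      rw [mk_add, mk_eq_mk] at e
      exact ((ha fa hfa rfl).add (hb fb hfb rfl)).congr' e.symm .rfl

end

end Groth.Agent.AnGerm
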