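import Groth.Agent.AnGerm.Etale

/-!
Analytic criterion for isomorphisms.
-/

set_option autoImplicit false
set_option backward.isDefEq.respectTransparency false
set_option linter.style.haveILetI false

open CategoryTheory Limits AlgebraicGeometry TopologicalSpace Topology Filter

namespace Groth.Agent.AnGerm

noncomputable section

open Groth.Agent.AnLib

variable {X Y : Scheme.{0}} [X.Over An.SC] [Y.Over An.SC] [LocallyOfFiniteType (X ↘ An.SC)]

omit [LocallyOfFiniteType (X ↘ An.SC)] in
theorem bijective_anStalk_of_inverse (f : X ⟶ Y) [f.IsOver An.SC] (e : An.Pts X ≃ₜ An.Pts Y)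
    (he : ⇑e = An.Pts.map f)
    (hinv : An.IsHolMap (⟨e.symm, e.symm.continuous⟩ : C(An.Pts Y, An.Pts X))) (x : An.Pts X) :
    Function.Bijective (anStalk f x) := by
  constructor
  · intro a b hab
    obtain ⟨O, hO, g, rfl⟩ := exists_germ _ a
    obtain ⟨O', hO', g', rfl⟩ := exists_germ _ b
    rw [anStalk_germ, anStalk_germ, germ_eq_iff] at hab
    refine germ_eq ?_
    rw [← congrFun he x, ← e.map_nhds_eq x]
    refine Filter.eventually_map.mpr (hab.mono fun z hz h1 h2 => ?_)
    have h3 := congrFun he z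
    have h1' : An.Pts.map f z ∈ O := h3 ▸ h1
    have h2' : An.Pts.map f z ∈ O' := h3 ▸ h2
    have := hz h1' h2'
    have e1 : (⟨e z, h1⟩ : O) = ⟨An.Pts.map f z, h1'⟩ := Subtype.ext h3
    have e2 : (⟨e z, h2⟩ : O') = ⟨An.Pts.map f z, h2'⟩ := Subtype.ext h3
    rw [e1, e2]
    exact this
  · intro b
    obtain ⟨O, hO, g, rfl⟩ := exists_germ x b
    let V : Opens (An.top Y) :=
      (Opens.map (TopCat.ofHom (⟨e.symm, e.symm.continuous⟩ : C(An.Pts Y, An.Pts X)))).obj O
    have hz : ∀ z : An.Pts X, e.symm (An.Pts.map f z) = z := fun z => by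
      rw [← congrFun he z, e.symm_apply_apply]
    have hV : An.Pts.map f x ∈ V := by
      change e.symm (An.Pts.map f x) ∈ O
      rw [hz]; exact hO
    refine ⟨germ (An.Pts.map f x) V hV ⟨fun y => g.1 ⟨e.symm y.1, y.2⟩, hinv O g.1 g.2⟩, ?_⟩
    rw [anStalk_germ]
    refine germ_eq (Eventually.of_forall fun z h1 h2 => ?_)
    change g.1 ⟨e.symm (An.Pts.map f z), h1⟩ = g.1 ⟨z, h2⟩
    exact congrArg g.1 (Subtype.ext (hz z))

/-- A morphism whose range is open and contains all `ℂ`-points is surjective. -/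
theorem surjective_of_pts {P Q : Scheme.{0}} [Q.Over An.SC] [LocallyOfFiniteType (Q ↘ An.SC)] (g : P ⟶ Q)
    (ho : IsOpen (Set.range g)) (h : ∀ z : An.Pts Q, z.pt ∈ Set.range g) : Surjective g := by
  refine ⟨fun q => ?_⟩
  by_contra hq
  obtain ⟨z, hz⟩ := exists_pt_mem (X := Q) (Z := (Set.range g)ᶜ) ⟨q, hq⟩ ho.isClosed_compl.isLocallyClosed
  exact hz (h z)

variable [LocallyOfFiniteType (Y ↘ An.SC)] [IsReduced X] [IsReduced Y]

theorem isIso_of_inverse (f : X ⟶ Y) [f.IsOver An.SC] (e : An.Pts X ≃ₜ An.Pts Y)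
    (he : ⇑e = An.Pts.map f)
    (hinv : An.IsHolMap (⟨e.symm, e.symm.continuous⟩ : C(An.Pts Y, An.Pts X))) : IsIso f := by
  haveI : Etale f := etale_of_bijective f fun x => bijective_anStalk_of_inverse f e he hinv x
  have hinj : Function.Injective (An.Pts.map f) := he ▸ e.injective
  haveI := locallyOfFiniteType_map f
  haveI : LocallyOfFiniteType (Limits.pullback f f ↘ An.SC) :=
    inferInstanceAs (LocallyOfFiniteType (pullback.fst f f ≫ X ↘ An.SC))
  haveI : IsOpenImmersion (pullback.diagonal f) := inferInstance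
  haveI : Surjective (pullback.diagonal f) := by
    refine surjective_of_pts _ (pullback.diagonal f).isOpenEmbedding.isOpen_range fun z => ?_
    have hab : An.Pts.map (pullback.fst f f) z = An.Pts.map (pullback.snd f f) z :=
      hinj (An.Pts.map_pullback_condition f f z)
    have hz : z.1 = (An.Pts.map (pullback.fst f f) z).1 ≫ pullback.diagonal f := by
      refine pullback.hom_ext ?_ ?_
      · simp
      · simp only [Category.assoc, pullback.diagonal_snd, Category.comp_id]
        exact (congrArg Subtype.val hab).symm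
    refine ⟨(An.Pts.map (pullback.fst f f) z).pt, ?_⟩
    change pullback.diagonal f ((An.Pts.map (pullback.fst f f) z).1 An.cpt) = z.1 An.cpt
    rw [← Scheme.Hom.comp_apply, ← hz]
  haveI : IsIso (pullback.diagonal f) := (isIso_iff_isOpenImmersion_and_surjective _).mpr ⟨inferInstance, inferInstance⟩
  haveI : Mono f := (pullback.isIso_diagonal_iff f).mp inferInstance
  haveI : IsOpenImmersion f := IsOpenImmersion.of_flat_of_mono f
  haveI : Surjective f := surjective_of_pts f f.isOpenEmbedding.isOpen_range fun z => by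
    obtain ⟨x, rfl⟩ := e.surjective z
    rw [congrFun he x, An.Pts.pt_map]
    exact Set.mem_range_self _
  exact (isIso_iff_isOpenImmersion_and_surjective f).mpr ⟨inferInstance, inferInstance⟩

omit [LocallyOfFiniteType (Y ↘ An.SC)] [IsReduced X] [IsReduced Y] [LocallyOfFiniteType (X ↘ An.SC)] in
theorem exists_inverse (f : X ⟶ Y) [f.IsOver An.SC] [IsIso f] :
    ∃ e : An.Pts X ≃ₜ An.Pts Y, (⇑e = An.Pts.map f) ∧
      An.IsHolMap (⟨e.symm, e.symm.continuous⟩ : C(An.Pts Y, An.Pts X)) := by
  haveI : (inv f).IsOver An.SC := ⟨by rw [IsIso.inv_comp_eq, comp_over f]⟩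
  refine ⟨⟨⟨An.Pts.map f, An.Pts.map (inv f), fun x => Subtype.ext ?_, fun y => Subtype.ext ?_⟩,
    An.Pts.continuous_map f, An.Pts.continuous_map (inv f)⟩, rfl, fun V g hg => An.holPred_comp (inv f) V g hg⟩
  · change (x.1 ≫ f) ≫ inv f = x.1
    simp
  · change (y.1 ≫ inv f) ≫ f = y.1
    simp

end

end Groth.Agent.AnGerm
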