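import Groth.Agent.AnGerm.Compare
import Groth.Agent.AdicBasics.LocalMap
import Groth.Agent.FlatDepth.RegHom
import Mathlib.AlgebraicGeometry.Morphisms.Etale
import Mathlib.AlgebraicGeometry.Morphisms.FormallyUnramified

/-!
Morphisms over `ℂ` and the maps of analytic local rings they induce.
-/

set_option autoImplicit false
set_option backward.isDefEq.respectTransparency false
set_option linter.style.haveILetI false

open CategoryTheory AlgebraicGeometry TopologicalSpace IsLocalRing
open scoped Groth.Agent.AnLib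

namespace Groth.Agent.AnGerm

noncomputable section

open Groth.Agent.AnLib

variable {X Y : Scheme.{0}} [X.Over An.SC] [Y.Over An.SC] (f : X ⟶ Y) [f.IsOver An.SC]

/-- The map of algebraic local rings. -/
def algStalk (x : An.Pts X) : Y.presheaf.stalk (An.Pts.map f x).pt →+* X.presheaf.stalk x.pt :=
  (f.stalkMap x.pt).hom

/-- The map of analytic local rings. -/
abbrev anStalk (x : An.Pts X) : St (An.Pts.map f x) →+* St x :=
  (PresheafedSpace.Hom.stalkMap (An.anMap f) x).hom

lemma anStalk_germ (x : An.Pts X) (O : Opens (An.top Y)) (h : An.Pts.map f x ∈ O) (g : An.holSub O) :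
    anStalk f x (germ (An.Pts.map f x) O h g) =
      germ x ((Opens.map (An.topMap f)).obj O) h (An.anMapApp f O g) :=
  ConcreteCategory.congr_hom (PresheafedSpace.stalkMap_germ (An.anMap f) O x h) g

theorem anStalk_cmp (x : An.Pts X) :
    (anStalk f x).comp (cmp (An.Pts.map f x)) = (cmp x).comp (algStalk f x) := by
  refine RingHom.ext fun r => ?_
  obtain ⟨U, hU, a, rfl⟩ := Y.presheaf.exists_germ_eq r
  rw [RingHom.comp_apply, RingHom.comp_apply, cmp_germ, anStalk_germ,
    show algStalk f x (Y.presheaf.germ U _ hU a) = X.presheaf.germ (f ⁻¹ᵁ U) x.pt hU (f.app U a) from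
      f.germ_stalkMap_apply U x.pt hU a, cmp_germ]
  refine germ_eq (Filter.Eventually.of_forall fun y hy _ => ?_)
  change An.Pts.ev (An.Pts.map f y) U hy a = An.Pts.ev y (f ⁻¹ᵁ U) hy (f.app U a)
  exact An.Pts.ev_map f y U hy a

variable [LocallyOfFiniteType (X ↘ An.SC)] [LocallyOfFiniteType (Y ↘ An.SC)]

theorem isLocalHom_algStalk (x : An.Pts X) : IsLocalHom (algStalk f x) :=
  inferInstanceAs (IsLocalHom (f.stalkMap x.pt).hom)

theorem isLocalHom_anStalk (x : An.Pts X) : IsLocalHom (anStalk f x) := by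
  haveI := isLocalHom_algStalk f x
  refine ((IsLocalRing.local_hom_TFAE (anStalk f x)).out 0 2).mpr ?_
  rw [← map_maximalIdeal_cmp, Ideal.map_map, anStalk_cmp, ← Ideal.map_map, ← map_maximalIdeal_cmp]
  exact Ideal.map_mono (IsLocalRing.map_maximalIdeal_le _)

variable [IsReduced X] [IsReduced Y]

/-- Flatness of the analytic map of local rings. -/
theorem flat_anStalk_iff (x : An.Pts X) : (anStalk f x).Flat ↔ (algStalk f x).Flat := by
  have := isNoetherianRing_stalk (X := X) x.pt
  have := isNoetherianRing_stalk (X := Y) (An.Pts.map f x).pt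
  let RY := Y.presheaf.stalk (An.Pts.map f x).pt
  let RX := X.presheaf.stalk x.pt
  constructor
  · intro h
    let _ : Algebra RY RX := (algStalk f x).toAlgebra
    let _ : Algebra RX (St x) := (cmp x).toAlgebra
    let _ : Algebra RY (St x) := ((cmp x).comp (algStalk f x)).toAlgebra
    have : IsScalarTower RY RX (St x) := .of_algebraMap_eq fun _ => rfl
    have : Module.FaithfullyFlat RX (St x) := faithfullyFlat_cmp x
    have : Module.Flat RY (St x) := by
      have h2 : (algebraMap RY (St x)).Flat := by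
        change ((cmp x).comp (algStalk f x)).Flat
        rw [← anStalk_cmp]
        exact (flat_cmp (An.Pts.map f x)).comp h
      exact RingHom.flat_algebraMap_iff.mp h2
    exact RingHom.flat_algebraMap_iff.mpr (SepSurj.flat_of_comp_faithfullyFlat (R := RY) (S := RX) (T := St x))
  · intro h
    haveI := isLocalHom_algStalk f x
    obtain ⟨ψ, hψ⟩ := FlatDepth.exists_cpl_map (algStalk f x)
    have hψflat : ψ.Flat := (AdicBasics.flat_completionMap_iff (algStalk f x) ψ hψ).2 h
    have key : (toCpl x).comp (anStalk f x) = ψ.comp (toCpl (An.Pts.map f x)) := by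
      refine RingHom.ext fun s => AdicCompletion.ext_evalₐ fun n => ?_
      let q₁ : St (An.Pts.map f x) →+* _ := (AdicCompletion.evalₐ (maximalIdeal RX) n).toRingHom.comp
        ((toCpl x).comp (anStalk f x))
      let q₂ : St (An.Pts.map f x) →+* _ := (AdicCompletion.evalₐ (maximalIdeal RX) n).toRingHom.comp
        (ψ.comp (toCpl (An.Pts.map f x)))
      change q₁ s = q₂ s
      have hq : ∀ a : RY, q₁ (cmp _ a) = q₂ (cmp _ a) := by
        intro a
        change AdicCompletion.evalₐ _ n (toCpl x (anStalk f x (cmp _ a))) =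
          AdicCompletion.evalₐ _ n (ψ (toCpl _ (cmp _ a)))
        rw [show anStalk f x (cmp _ a) = cmp x (algStalk f x a) from RingHom.congr_fun (anStalk_cmp f x) a,
          show toCpl x (cmp x (algStalk f x a)) = algebraMap RX _ (algStalk f x a) from
            RingHom.congr_fun (toCpl_cmp x) _,
          show toCpl _ (cmp _ a) = algebraMap RY _ a from RingHom.congr_fun (toCpl_cmp (An.Pts.map f x)) a]
        exact congrArg _ (RingHom.congr_fun hψ a).symm
      have hzero : ∀ (q : St (An.Pts.map f x) →+* RX ⧸ maximalIdeal RX ^ n),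
          (∀ a ∈ maximalIdeal RY, q (cmp _ a) ∈ (maximalIdeal RX).map (Ideal.Quotient.mk _)) →
          ∀ d ∈ maximalIdeal (St (An.Pts.map f x)) ^ n, q d = 0 := by
        intro q hq d hd
        rw [← map_maximalIdeal_cmp] at hd
        have h1 := Ideal.mem_map_of_mem q hd
        rw [Ideal.map_pow, Ideal.map_map] at h1
        have h2 := Ideal.pow_right_mono (Ideal.map_le_iff_le_comap.mpr
          (show maximalIdeal RY ≤ ((maximalIdeal RX).map (Ideal.Quotient.mk (maximalIdeal RX ^ n))).comap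
            (q.comp (cmp (An.Pts.map f x))) from hq)) n h1
        rwa [← Ideal.map_pow, Ideal.map_quotient_self, Ideal.mem_bot] at h2
      have hmem : ∀ a ∈ maximalIdeal RY, q₁ (cmp _ a) ∈ (maximalIdeal RX).map (Ideal.Quotient.mk _) := by
        intro a ha
        change AdicCompletion.evalₐ _ n (toCpl x (anStalk f x (cmp _ a))) ∈ _
        rw [show anStalk f x (cmp _ a) = cmp x (algStalk f x a) from RingHom.congr_fun (anStalk_cmp f x) a,
          show toCpl x (cmp x (algStalk f x a)) = algebraMap RX _ (algStalk f x a) from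
            RingHom.congr_fun (toCpl_cmp x) _, AlgHom.commutes]
        exact Ideal.mem_map_of_mem _ (IsLocalRing.map_maximalIdeal_le _ (Ideal.mem_map_of_mem (algStalk f x) ha))
      obtain ⟨a, ha⟩ := exists_sub_mem_pow (An.Pts.map f x) n s
      have e1 : q₁ (cmp _ a) = q₁ s := sub_eq_zero.mp (by rw [← map_sub]; exact hzero q₁ hmem _ ha)
      have e2 : q₂ (cmp _ a) = q₂ s := sub_eq_zero.mp (by
        rw [← map_sub]; exact hzero q₂ (fun b hb => hq b ▸ hmem b hb) _ ha)
      rw [← e1, ← e2, hq a]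
    let _ : Algebra (St (An.Pts.map f x)) (St x) := (anStalk f x).toAlgebra
    let _ : Algebra (St x) (EGA4.Cpl RX) := (toCpl x).toAlgebra
    let _ : Algebra (St (An.Pts.map f x)) (EGA4.Cpl RX) := ((toCpl x).comp (anStalk f x)).toAlgebra
    have : IsScalarTower (St (An.Pts.map f x)) (St x) (EGA4.Cpl RX) := .of_algebraMap_eq fun _ => rfl
    have : Module.FaithfullyFlat (St x) (EGA4.Cpl RX) := faithfullyFlat_toCpl x
    have : Module.Flat (St (An.Pts.map f x)) (EGA4.Cpl RX) := by
      have h2 : (algebraMap (St (An.Pts.map f x)) (EGA4.Cpl RX)).Flat := by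
        change ((toCpl x).comp (anStalk f x)).Flat
        rw [key]
        exact (flat_toCpl (An.Pts.map f x)).comp hψflat
      exact RingHom.flat_algebraMap_iff.mp h2
    exact RingHom.flat_algebraMap_iff.mpr
      (SepSurj.flat_of_comp_faithfullyFlat (R := St (An.Pts.map f x)) (S := St x) (T := EGA4.Cpl RX))

/-- The analytic map is unramified iff the algebraic one is. -/
theorem map_maximal_anStalk_iff (x : An.Pts X) :
    (maximalIdeal (St (An.Pts.map f x))).map (anStalk f x) = maximalIdeal (St x) ↔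
      (maximalIdeal (Y.presheaf.stalk (An.Pts.map f x).pt)).map (algStalk f x) =
        maximalIdeal (X.presheaf.stalk x.pt) := by
  let _ : Algebra (X.presheaf.stalk x.pt) (St x) := (cmp x).toAlgebra
  have : Module.FaithfullyFlat (X.presheaf.stalk x.pt) (St x) := faithfullyFlat_cmp x
  rw [← map_maximalIdeal_cmp, Ideal.map_map, anStalk_cmp, ← Ideal.map_map, ← map_maximalIdeal_cmp x]
  refine ⟨fun h => ?_, fun h => by rw [h]⟩
  have := congrArg (Ideal.comap (algebraMap (X.presheaf.stalk x.pt) (St x))) h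
  rw [show cmp x = algebraMap (X.presheaf.stalk x.pt) (St x) from rfl] at this
  rwa [Ideal.comap_map_eq_self_of_faithfullyFlat, Ideal.comap_map_eq_self_of_faithfullyFlat] at this

omit [LocallyOfFiniteType (Y ↘ An.SC)] [IsReduced X] [IsReduced Y] [Y.Over An.SC] in
/-- A maximal ideal of the sections over an affine open is the prime of a rational point. -/
theorem exists_pt_primeIdealOf {U : X.Opens} (hU : IsAffineOpen U) (P : Ideal Γ(X, U)) [P.IsMaximal] :
    ∃ (x : An.Pts X) (hx : x.pt ∈ U), P = (hU.primeIdealOf ⟨x.pt, hx⟩).asIdeal := by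
  have := finiteType_sec (X := X) hU
  obtain ⟨φ, hφ⟩ := exists_pt_of_isMaximal P
  refine ⟨ofHom hU φ, pt_ofHom hU φ, Ideal.ext fun a => ?_⟩
  let _ := TopCat.Presheaf.algebra_section_stalk X.presheaf (⟨(ofHom hU φ).pt, pt_ofHom hU φ⟩ : U)
  have := hU.isLocalization_stalk ⟨(ofHom hU φ).pt, pt_ofHom hU φ⟩
  have key : IsUnit (X.presheaf.germ U (ofHom hU φ).pt (pt_ofHom hU φ) a) ↔
      a ∈ (hU.primeIdealOf ⟨(ofHom hU φ).pt, pt_ofHom hU φ⟩).asIdeal.primeCompl :=
    IsLocalization.AtPrime.isUnit_to_map_iff (X.presheaf.stalk (ofHom hU φ).pt)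
      (hU.primeIdealOf ⟨(ofHom hU φ).pt, pt_ofHom hU φ⟩).asIdeal a
  rw [← X.mem_basicOpen a _ (pt_ofHom hU φ), mem_basicOpen_iff _ (pt_ofHom hU φ) a,
    ← toHom_apply _ U (pt_ofHom hU φ) a, toHom_ofHom, Ideal.mem_primeCompl_iff, not_iff_not] at key
  rw [← hφ, RingHom.mem_ker]
  exact key

omit [LocallyOfFiniteType (Y ↘ An.SC)] [LocallyOfFiniteType (X ↘ An.SC)] [IsReduced X] [IsReduced Y] [Y.Over An.SC] in
/-- Residues at rational points are constants. -/
theorem residue_eq_const (x : An.Pts X) {U : X.Opens} (hU : IsAffineOpen U) (hx : x.pt ∈ U)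
    (b : X.presheaf.stalk x.pt) : ∃ c : ℂ,
      IsLocalRing.residue _ b = IsLocalRing.residue _ (X.presheaf.germ U x.pt hx (algebraMap ℂ Γ(X, U) c)) := by
  let _ := TopCat.Presheaf.algebra_section_stalk X.presheaf (⟨x.pt, hx⟩ : U)
  have := hU.isLocalization_stalk ⟨x.pt, hx⟩
  obtain ⟨⟨u, v⟩, e⟩ := IsLocalization.surj (hU.primeIdealOf ⟨x.pt, hx⟩).asIdeal.primeCompl b
  change b * X.presheaf.germ U x.pt hx v.1 = X.presheaf.germ U x.pt hx u at e
  have hres : ∀ a : Γ(X, U), IsLocalRing.residue _ (X.presheaf.germ U x.pt hx a) =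
      IsLocalRing.residue _ (X.presheaf.germ U x.pt hx (algebraMap ℂ Γ(X, U) (toHom x U hx a))) := by
    intro a
    rw [← sub_eq_zero, ← map_sub, ← map_sub, residue_eq_zero_iff, IsLocalRing.mem_maximalIdeal, mem_nonunits_iff,
      ← X.mem_basicOpen _ x.pt hx, mem_basicOpen_iff x hx, ← toHom_apply x U hx, map_sub, AlgHom.commutes]
    simp
  have hv : toHom x U hx v.1 ≠ 0 := by
    have h1 : IsUnit (X.presheaf.germ U x.pt hx v.1) :=
      IsLocalization.map_units (M := (hU.primeIdealOf ⟨x.pt, hx⟩).asIdeal.primeCompl) (X.presheaf.stalk x.pt) v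
    rwa [← X.mem_basicOpen _ x.pt hx, mem_basicOpen_iff x hx, ← toHom_apply x U hx] at h1
  refine ⟨toHom x U hx u / toHom x U hx v.1, ?_⟩
  have h2 := congrArg (IsLocalRing.residue _) e
  rw [map_mul, hres v.1, hres u] at h2
  apply mul_right_cancel₀ (b := IsLocalRing.residue _ (X.presheaf.germ U x.pt hx (algebraMap ℂ Γ(X, U) (toHom x U hx v.1))))
    (((isUnit_iff_ne_zero.mpr hv).map ((IsLocalRing.residue _).comp ((X.presheaf.germ U x.pt hx).hom.comp (algebraMap ℂ Γ(X, U))))).ne_zero)
  rw [h2, ← map_mul, ← map_mul, ← map_mul, div_mul_cancel₀ _ hv]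

omit [IsReduced X] [IsReduced Y] [Y.Over An.SC] [f.IsOver An.SC] [LocallyOfFiniteType (Y ↘ An.SC)] in
/-- Flatness can be tested at the rational points. -/
theorem flat_of_pts [LocallyOfFiniteType f] (h : ∀ x : An.Pts X, (f.stalkMap x.pt).hom.Flat) : Flat f := by
  rw [HasRingHomProperty.iff_appLE (P := @Flat)]
  intro V U e
  have hV : IsAffineOpen V.1 := V.2
  have hU : IsAffineOpen U.1 := U.2
  let _ : Algebra Γ(Y, V) Γ(X, U) := (f.appLE V U e).hom.toAlgebra
  have key : ∀ (P : Ideal Γ(X, U)) [P.IsMaximal], Module.Flat Γ(Y, V) (Localization.AtPrime P) := by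
    intro P _
    obtain ⟨x, hx, hP⟩ := exists_pt_primeIdealOf hU P
    let _ := TopCat.Presheaf.algebra_section_stalk X.presheaf (⟨x.pt, hx⟩ : U.1)
    have := hU.isLocalization_stalk ⟨x.pt, hx⟩
    subst hP
    let e' := IsLocalization.algEquiv (hU.primeIdealOf ⟨x.pt, hx⟩).asIdeal.primeCompl
      (X.presheaf.stalk x.pt) (Localization.AtPrime (hU.primeIdealOf ⟨x.pt, hx⟩).asIdeal)
    have hflat : ((X.presheaf.germ U.1 x.pt hx).hom.comp (f.appLE V U e).hom).Flat := by
      have e2 : f.appLE V U e ≫ X.presheaf.germ U.1 x.pt hx =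
          Y.presheaf.germ V.1 (f x.pt) (e hx) ≫ f.stalkMap x.pt := by
        rw [Scheme.Hom.germ_stalkMap, Scheme.Hom.appLE, Category.assoc, TopCat.Presheaf.germ_res]
      rw [← CommRingCat.hom_comp, e2, CommRingCat.hom_comp]
      refine RingHom.Flat.comp ?_ (h x)
      let _ := TopCat.Presheaf.algebra_section_stalk Y.presheaf (⟨f x.pt, e hx⟩ : V.1)
      have := hV.isLocalization_stalk ⟨f x.pt, e hx⟩
      exact RingHom.flat_algebraMap_iff.mpr
        (IsLocalization.flat (Y.presheaf.stalk (f x.pt)) (hV.primeIdealOf ⟨f x.pt, e hx⟩).asIdeal.primeCompl)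
    have := hflat.comp (RingHom.Flat.of_bijective (f := e'.toRingEquiv.toRingHom) e'.bijective)
    refine RingHom.flat_algebraMap_iff.mp ?_
    convert this using 1
    refine RingHom.ext fun a => ?_
    rw [IsScalarTower.algebraMap_apply Γ(Y, V) Γ(X, U) (Localization.AtPrime _)]
    exact (e'.commutes (algebraMap Γ(Y, V) Γ(X, U) a)).symm
  exact Module.flat_of_isLocalized_maximal (S := Γ(X, U)) (M := Γ(X, U))
    (fun P => Localization.AtPrime P) (fun P => Algebra.linearMap Γ(X, U) (Localization.AtPrime P)) key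

omit [IsReduced X] [IsReduced Y] [LocallyOfFiniteType (Y ↘ An.SC)] in
/-- Unramifiedness can be tested at the rational points. -/
theorem formallyUnramified_of_pts [LocallyOfFiniteType f]
    (h : ∀ x : An.Pts X, (maximalIdeal (Y.presheaf.stalk (f x.pt))).map (f.stalkMap x.pt).hom =
      maximalIdeal (X.presheaf.stalk x.pt)) : FormallyUnramified f := by
  rw [HasRingHomProperty.iff_appLE (P := @FormallyUnramified)]
  intro V U e
  have hV : IsAffineOpen V.1 := V.2
  have hU : IsAffineOpen U.1 := U.2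
  let _ : Algebra Γ(Y, V) Γ(X, U) := (f.appLE V U e).hom.toAlgebra
  have : Algebra.FiniteType Γ(Y, V) Γ(X, U) := f.finiteType_appLE V.2 U.2 e
  refine Algebra.unramifiedLocus_eq_univ_iff.mp ?_
  by_contra hne
  obtain ⟨q, hq⟩ : ∃ q, q ∉ Algebra.unramifiedLocus Γ(Y, V) Γ(X, U) :=
    (Set.ne_univ_iff_exists_notMem _).mp hne
  obtain ⟨P, hP, hqP⟩ := Ideal.exists_le_maximal q.asIdeal q.isPrime.ne_top
  refine hq (Algebra.isOpen_unramifiedLocus.stableUnderGeneralization
    (show q ⤳ ⟨P, hP.isPrime⟩ from (PrimeSpectrum.le_iff_specializes _ _).mp hqP) ?_)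
  obtain ⟨x, hx, hPx⟩ := exists_pt_primeIdealOf hU P
  subst hPx
  let _ := TopCat.Presheaf.algebra_section_stalk X.presheaf (⟨x.pt, hx⟩ : U.1)
  have := hU.isLocalization_stalk ⟨x.pt, hx⟩
  let e' := IsLocalization.algEquiv (hU.primeIdealOf ⟨x.pt, hx⟩).asIdeal.primeCompl
    (X.presheaf.stalk x.pt) (Localization.AtPrime (hU.primeIdealOf ⟨x.pt, hx⟩).asIdeal)
  change Algebra.FormallyUnramified Γ(Y, V) (Localization.AtPrime _)
  let _ : Algebra Γ(Y, V) (X.presheaf.stalk x.pt) :=
    ((algebraMap Γ(X, U) (X.presheaf.stalk x.pt)).comp (algebraMap Γ(Y, V) Γ(X, U))).toAlgebra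
  have : IsScalarTower Γ(Y, V) Γ(X, U) (X.presheaf.stalk x.pt) := .of_algebraMap_eq fun _ => rfl
  suffices H : Algebra.FormallyUnramified Γ(Y, V) (X.presheaf.stalk x.pt) from
    Algebra.FormallyUnramified.of_equiv (e'.restrictScalars Γ(Y, V))
  let _ := TopCat.Presheaf.algebra_section_stalk Y.presheaf (⟨f x.pt, e hx⟩ : V.1)
  have := hV.isLocalization_stalk ⟨f x.pt, e hx⟩
  let _ : Algebra (Y.presheaf.stalk (f x.pt)) (X.presheaf.stalk x.pt) := (f.stalkMap x.pt).hom.toAlgebra
  have e2 : f.appLE V U e ≫ X.presheaf.germ U.1 x.pt hx =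
      Y.presheaf.germ V.1 (f x.pt) (e hx) ≫ f.stalkMap x.pt := by
    rw [Scheme.Hom.germ_stalkMap, Scheme.Hom.appLE, Category.assoc, TopCat.Presheaf.germ_res]
  have : IsScalarTower Γ(Y, V) (Y.presheaf.stalk (f x.pt)) (X.presheaf.stalk x.pt) :=
    .of_algebraMap_eq fun a => ConcreteCategory.congr_hom e2 a
  have : Algebra.FormallyUnramified Γ(Y, V) (Y.presheaf.stalk (f x.pt)) :=
    Algebra.FormallyUnramified.of_isLocalization (hV.primeIdealOf ⟨f x.pt, e hx⟩).asIdeal.primeCompl
  have : IsLocalHom (algebraMap (Y.presheaf.stalk (f x.pt)) (X.presheaf.stalk x.pt)) :=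
    inferInstanceAs (IsLocalHom (f.stalkMap x.pt).hom)
  have : Algebra.EssFiniteType Γ(Y, V) (X.presheaf.stalk x.pt) :=
    have : Algebra.EssFiniteType Γ(X, U) (X.presheaf.stalk x.pt) :=
      Algebra.EssFiniteType.of_isLocalization (X.presheaf.stalk x.pt)
        (hU.primeIdealOf ⟨x.pt, hx⟩).asIdeal.primeCompl
    Algebra.EssFiniteType.comp Γ(Y, V) Γ(X, U) (X.presheaf.stalk x.pt)
  have : Algebra.EssFiniteType (Y.presheaf.stalk (f x.pt)) (X.presheaf.stalk x.pt) :=
    Algebra.EssFiniteType.of_comp Γ(Y, V) _ _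
  -- the residue field extension is trivial
  have hsurj : Function.Surjective (algebraMap (ResidueField (Y.presheaf.stalk (f x.pt)))
      (ResidueField (X.presheaf.stalk x.pt))) := by
    intro b
    obtain ⟨b, rfl⟩ := IsLocalRing.residue_surjective b
    obtain ⟨c, hc⟩ := residue_eq_const x hU hx b
    have hfr : (An.Pts.map f x).pt ∈ V.1 := e hx
    refine ⟨IsLocalRing.residue _ (Y.presheaf.germ V.1 (f x.pt) (e hx) (algebraMap ℂ Γ(Y, V.1) c)), ?_⟩
    rw [hc]
    change IsLocalRing.residue _ (algebraMap (Y.presheaf.stalk (f x.pt)) (X.presheaf.stalk x.pt) _) = _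
    refine congrArg _ ?_
    refine (ConcreteCategory.congr_hom e2 (algebraMap ℂ Γ(Y, V.1) c)).symm.trans ?_
    exact congrArg (X.presheaf.germ U.1 x.pt hx) ((pullAlg f V.1 U.1 e).commutes c)
  have : Algebra.IsSeparable (ResidueField (Y.presheaf.stalk (f x.pt))) (ResidueField (X.presheaf.stalk x.pt)) := by
    refine ⟨fun b => ?_⟩
    obtain ⟨a, rfl⟩ := hsurj b
    exact isSeparable_algebraMap a
  have : Algebra.FormallyUnramified (Y.presheaf.stalk (f x.pt)) (X.presheaf.stalk x.pt) :=
    Algebra.FormallyUnramified.of_map_maximalIdeal (h x)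
  exact Algebra.FormallyUnramified.comp _ (Y.presheaf.stalk (f x.pt)) _

theorem map_maximal_of_formallyUnramified {R S : Type} [CommRing R] [CommRing S] [IsLocalRing R]
    [IsLocalRing S] (φ : R →+* S) [IsLocalHom φ] (h : φ.FormallyUnramified) (he : φ.EssFiniteType) :
    (maximalIdeal R).map φ = maximalIdeal S := by
  algebraize [φ]
  haveI : IsLocalHom (algebraMap R S) := inferInstanceAs (IsLocalHom φ)
  exact Algebra.FormallyUnramified.map_maximalIdeal (R := R) (S := S)

omit [IsReduced X] [IsReduced Y] in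
theorem map_maximal_algStalk [FormallyUnramified f] [LocallyOfFiniteType f] (x : An.Pts X) :
    (maximalIdeal (Y.presheaf.stalk (An.Pts.map f x).pt)).map (algStalk f x) =
      maximalIdeal (X.presheaf.stalk x.pt) :=
  haveI := isLocalHom_algStalk f x
  map_maximal_of_formallyUnramified (algStalk f x) (FormallyUnramified.stalkMap f x.pt)
    (LocallyOfFiniteType.stalkMap f x.pt)

end

end Groth.Agent.AnGerm
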