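import Groth.Agent.AnGerm.Chart

/-!
The local rings of `X^an` and their comparison with those of `X`.
-/

set_option autoImplicit false
set_option backward.isDefEq.respectTransparency false

open CategoryTheory AlgebraicGeometry TopologicalSpace Topology Filter Opposite IsLocalRing Asymptotics
open scoped Groth.Agent.AnLib

namespace Groth.Agent.AnGerm

noncomputable section

open Groth.Agent.AnLib

variable {X : Scheme.{0}} [X.Over An.SC] [LocallyOfFiniteType (X ↘ An.SC)]

instance isLocalRing_St (x : An.Pts X) : IsLocalRing (St x) :=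
  let c := (nonempty_chart x).some
  IsLocalRing.of_surjective' c.pull c.pull_surjective

instance isNoetherianRing_St (x : An.Pts X) : IsNoetherianRing (St x) :=
  let c := (nonempty_chart x).some
  isNoetherianRing_of_surjective _ _ c.pull c.pull_surjective

namespace Chart

variable {x : An.Pts X} (c : Chart x)

/-- A section over `c.U` in the algebraic local ring. -/
abbrev toStalk : Γ(X, c.U) →+* (X.presheaf.stalk x.pt) :=
  (X.presheaf.germ c.U x.pt c.hx).hom

lemma isLocalization_toStalk :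
    letI := c.toStalk.toAlgebra
    IsLocalization.AtPrime (X.presheaf.stalk x.pt) (c.hU.primeIdealOf ⟨x.pt, c.hx⟩).asIdeal :=
  c.hU.isLocalization_stalk ⟨x.pt, c.hx⟩

lemma isUnit_toStalk_iff (a : Γ(X, c.U)) : IsUnit (c.toStalk a) ↔ toHom x c.U c.hx a ≠ 0 := by
  exact (X.mem_basicOpen a x.pt c.hx).symm.trans (mem_basicOpen_iff x c.hx a)

lemma mem_maximalIdeal_toStalk (a : Γ(X, c.U)) :
    c.toStalk a ∈ maximalIdeal (X.presheaf.stalk x.pt) ↔ toHom x c.U c.hx a = 0 := by
  rw [mem_maximalIdeal, mem_nonunits_iff, c.isUnit_toStalk_iff, not_not]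

lemma maximalIdeal_stalk_eq :
    maximalIdeal (X.presheaf.stalk x.pt) = (RingHom.ker (toHom x c.U c.hx)).map c.toStalk := by
  refine le_antisymm (fun a ha => ?_) (Ideal.map_le_iff_le_comap.mpr fun a ha =>
    (c.mem_maximalIdeal_toStalk a).mpr ha)
  let _ := c.toStalk.toAlgebra
  have := c.isLocalization_toStalk
  obtain ⟨⟨u, v⟩, e⟩ := IsLocalization.surj (c.hU.primeIdealOf ⟨x.pt, c.hx⟩).asIdeal.primeCompl a
  change a * c.toStalk v.1 = c.toStalk u at e
  have hv : IsUnit (c.toStalk v.1) :=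
    IsLocalization.map_units (M := (c.hU.primeIdealOf ⟨x.pt, c.hx⟩).asIdeal.primeCompl) (X.presheaf.stalk x.pt) v
  have hu : c.toStalk u ∈ maximalIdeal (X.presheaf.stalk x.pt) := e ▸ Ideal.mul_mem_right _ _ ha
  have := Ideal.mem_map_of_mem c.toStalk (show u ∈ RingHom.ker (toHom x c.U c.hx) from
    (c.mem_maximalIdeal_toStalk u).mp hu)
  rw [← e] at this
  exact (Ideal.mul_unit_mem_iff_mem _ hv).mp this

lemma cmp_toStalk (P : MvPolynomial (Fin c.n) ℂ) :
    cmp x (c.toStalk (MvPolynomial.aeval c.s P)) = c.pull (polyHom c.n P) :=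
  (c.pull_polyHom P).symm

lemma map_maximalIdeal_pull :
    (maximalIdeal (Hol (Fin c.n → ℂ))).map c.pull = maximalIdeal (St x) :=
  IsLocalRing.map_maximalIdeal_of_surjective _ c.pull_surjective

end Chart

/-- The maximal ideal of the analytic local ring comes from the algebraic one. -/
theorem map_maximalIdeal_cmp (x : An.Pts X) :
    (maximalIdeal (X.presheaf.stalk x.pt)).map (cmp x) = maximalIdeal (St x) := by
  obtain ⟨c⟩ := nonempty_chart x
  refine le_antisymm ?_ ?_
  · rw [c.maximalIdeal_stalk_eq, Ideal.map_map, Ideal.map_le_iff_le_comap]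
    intro a ha
    obtain ⟨P, rfl⟩ := c.surj a
    rw [Ideal.mem_comap, RingHom.comp_apply, c.cmp_toStalk, ← c.map_maximalIdeal_pull]
    refine Ideal.mem_map_of_mem _ ?_
    rw [mem_maximalIdeal_iff, polyHom_apply, value_mk]
    rw [RingHom.mem_ker, apply_aeval] at ha
    simpa [funext c.zero] using ha
  · rw [← c.map_maximalIdeal_pull, maximalIdeal_eq_map, MvPolynomial.idealOfVars,
      Ideal.map_span, Ideal.map_span, Ideal.span_le]
    rintro _ ⟨_, ⟨_, ⟨i, rfl⟩, rfl⟩, rfl⟩
    change c.pull (polyHom c.n (MvPolynomial.X i)) ∈ _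
    rw [← c.cmp_toStalk, MvPolynomial.aeval_X]
    exact Ideal.mem_map_of_mem _ ((c.mem_maximalIdeal_toStalk _).mpr (c.zero i))

theorem isLocalHom_cmp (x : An.Pts X) : IsLocalHom (cmp x) :=
  ((IsLocalRing.local_hom_TFAE (cmp x)).out 0 2).mpr (map_maximalIdeal_cmp x).le

theorem map_pow_cmp (x : An.Pts X) (n : ℕ) :
    ((maximalIdeal (X.presheaf.stalk x.pt)) ^ n).map (cmp x) = maximalIdeal (St x) ^ n := by
  rw [Ideal.map_pow, map_maximalIdeal_cmp]

/-- Algebraic germs are dense. -/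
theorem exists_sub_mem_pow (x : An.Pts X) (n : ℕ) (b : St x) :
    ∃ a, cmp x a - b ∈ maximalIdeal (St x) ^ n := by
  obtain ⟨c⟩ := nonempty_chart x
  obtain ⟨g, rfl⟩ := c.pull_surjective b
  obtain ⟨P, hP⟩ := exists_poly_sub_mem g n
  refine ⟨c.toStalk (MvPolynomial.aeval c.s P), ?_⟩
  rw [c.cmp_toStalk, ← map_sub, ← c.map_maximalIdeal_pull, ← Ideal.map_pow, ← neg_sub, map_neg]
  exact neg_mem (Ideal.mem_map_of_mem c.pull hP)

variable [IsReduced X]

lemma Chart.poly_mem_pow {x : An.Pts X} (c : Chart x) (P : MvPolynomial (Fin c.n) ℂ) (k : ℕ)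
    (h : c.pull (polyHom c.n P) ∈ maximalIdeal (St x) ^ k) :
    c.toStalk (MvPolynomial.aeval c.s P) ∈ maximalIdeal (X.presheaf.stalk x.pt) ^ k := by
  have : IsReduced Γ(X, c.U) := inferInstance
  have := finiteType_sec (X := X) c.hU
  have := isNoetherianRing_stalk (X := X) x.pt
  have : IsReduced (EGA4.Cpl (X.presheaf.stalk x.pt)) := isReduced_cpl (isRegularHom_stalk_cpl x.pt)
  rw [← c.map_maximalIdeal_pull, ← Ideal.map_pow, Ideal.mem_map_iff_of_surjective _ c.pull_surjective] at h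
  obtain ⟨G', hG', hGe⟩ := h
  set G := polyHom c.n P - G' with hGdef
  have hG0 : c.pull G = 0 := by rw [hGdef, map_sub, hGe, sub_self]
  choose Pn hPn using fun N => exists_poly_sub_mem G N
  let π : ℕ → (X.presheaf.stalk x.pt) := fun N => c.toStalk (MvPolynomial.aeval c.s (Pn N))
  have hvars : ∀ (N : ℕ) (Q : MvPolynomial (Fin c.n) ℂ),
      polyHom c.n Q ∈ maximalIdeal (Hol (Fin c.n → ℂ)) ^ N →
        c.toStalk (MvPolynomial.aeval c.s Q) ∈ maximalIdeal (X.presheaf.stalk x.pt) ^ N := by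
    intro N Q hQ
    rw [polyHom_apply] at hQ
    have h1 := Ideal.mem_map_of_mem (c.toStalk.comp (MvPolynomial.aeval (R := ℂ) c.s).toRingHom)
      (mem_pow_idealOfVars_of_isBigO (isBigO_of_mem_pow hQ))
    rw [Ideal.map_pow] at h1
    refine Ideal.pow_right_mono (Ideal.map_le_iff_le_comap.mpr (Ideal.span_le.mpr ?_)) N h1
    rintro _ ⟨i, rfl⟩
    rw [SetLike.mem_coe, Ideal.mem_comap, RingHom.comp_apply]
    change c.toStalk (MvPolynomial.aeval c.s (MvPolynomial.X i)) ∈ _
    rw [MvPolynomial.aeval_X]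
    exact (c.mem_maximalIdeal_toStalk _).mpr (c.zero i)
  have hcauchy : ∀ i j, i ≤ j → π j - π i ∈ maximalIdeal (X.presheaf.stalk x.pt) ^ i := by
    intro i j hij
    simp only [π, ← map_sub]
    refine hvars i _ ?_
    rw [map_sub, show polyHom c.n (Pn j) - polyHom c.n (Pn i) =
      (G - polyHom c.n (Pn i)) - (G - polyHom c.n (Pn j)) by ring]
    exact sub_mem (hPn i) (Ideal.pow_le_pow_right hij (hPn j))
  obtain ⟨D, e, hDe⟩ := key_reduced (A := Γ(X, c.U)) c.s c.surj (toHom x c.U c.hx)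
  have hbound : ∀ N, (fun ψ : Γ(X, c.U) →ₐ[ℂ] ℂ => ψ (MvPolynomial.aeval c.s (Pn N))) =O[𝓝 (toHom x c.U c.hx)]
      fun ψ => ‖rel c.s (toHom x c.U c.hx) ψ‖ ^ N := by
    intro N
    obtain ⟨f, hf, hfe⟩ := exists_mk G
    have hd := hPn N
    rw [← hfe, polyHom_apply, sub_eq_add_neg, mk_neg, mk_add] at hd
    have hO := (isBigO_of_mem_pow hd).comp_tendsto (tendsto_rel c.s (toHom x c.U c.hx))
    have hz := c.eventually_zero (G := f) (hG := hf) (by rw [hfe]; exact hG0)
    have hc : Tendsto (ofHom c.hU) (𝓝 (toHom x c.U c.hx)) (𝓝 x) := by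
      have := (continuous_ofHom c.hU).tendsto (toHom x c.U c.hx)
      rwa [ofHom_toHom] at this
    refine hO.neg_left.congr' ?_ (Eventually.of_forall fun ψ => rfl)
    refine (hc.eventually hz).mono fun ψ hψ => ?_
    have hrel : rel c.s (toHom x c.U c.hx) ψ = fun i => ψ (c.s i) := funext fun i => by
      simp only [rel, c.zero i, sub_zero]
    rw [c.coord_of_mem (pt_ofHom c.hU ψ), toHom_ofHom] at hψ
    simp only [Function.comp_apply, hrel, hψ, zero_add, neg_neg]
    exact (apply_aeval c.s ψ _).symm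
  have hπpow : ∀ M, π ((D + 1) * M) ^ e ∈ maximalIdeal (X.presheaf.stalk x.pt) ^ M := by
    intro M
    obtain ⟨u, hu, hmem⟩ := hDe M (MvPolynomial.aeval c.s (Pn ((D + 1) * M))) (by
      refine (hbound _).trans (IsBigO.of_bound 1 ?_)
      refine ((tendsto_rel c.s (toHom x c.U c.hx)).norm.eventually_le_const
        (show ‖(0 : Fin c.n → ℂ)‖ < 1 by simp)).mono fun ψ hψ => ?_
      rw [one_mul, Real.norm_of_nonneg (by positivity), Real.norm_of_nonneg (by positivity)]
      exact pow_le_pow_of_le_one (norm_nonneg _) hψ (Nat.mul_le_mul_right M D.le_succ))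
    have h1 := Ideal.mem_map_of_mem c.toStalk hmem
    rw [Ideal.map_pow, ← c.maximalIdeal_stalk_eq, map_pow, map_mul, mul_pow] at h1
    exact (Ideal.unit_mul_mem_iff_mem _ (((c.isUnit_toStalk_iff u).mpr hu).pow e)).mp h1
  have hk := mem_pow_of_cauchy π hcauchy D e hπpow k
  have hlast : c.toStalk (MvPolynomial.aeval c.s (P - Pn k)) ∈ maximalIdeal (X.presheaf.stalk x.pt) ^ k := by
    refine hvars k _ ?_
    rw [map_sub, show polyHom c.n P - polyHom c.n (Pn k) = G' + (G - polyHom c.n (Pn k)) by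
      rw [hGdef]; ring]
    exact add_mem hG' (hPn k)
  rw [map_sub, map_sub] at hlast
  have := add_mem hlast hk
  rwa [sub_add_cancel] at this

/-- An algebraic germ in the `n`th power of the analytic maximal ideal lies in that of the algebraic one. -/
theorem mem_pow_of_cmp_mem (x : An.Pts X) (n : ℕ) (a : X.presheaf.stalk x.pt)
    (h : cmp x a ∈ maximalIdeal (St x) ^ n) : a ∈ maximalIdeal (X.presheaf.stalk x.pt) ^ n := by
  obtain ⟨c⟩ := nonempty_chart x
  let _ := c.toStalk.toAlgebra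
  have := c.isLocalization_toStalk
  obtain ⟨⟨u, v⟩, e⟩ := IsLocalization.surj (c.hU.primeIdealOf ⟨x.pt, c.hx⟩).asIdeal.primeCompl a
  change a * c.toStalk v.1 = c.toStalk u at e
  have hv : IsUnit (c.toStalk v.1) :=
    IsLocalization.map_units (M := (c.hU.primeIdealOf ⟨x.pt, c.hx⟩).asIdeal.primeCompl) (X.presheaf.stalk x.pt) v
  obtain ⟨P, rfl⟩ := c.surj u
  have h1 : c.pull (polyHom c.n P) ∈ maximalIdeal (St x) ^ n := by
    rw [← c.cmp_toStalk, ← e, map_mul]; exact Ideal.mul_mem_right _ _ h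
  have h2 := c.poly_mem_pow P n h1
  rw [← e] at h2
  exact (Ideal.mul_unit_mem_iff_mem _ hv).mp h2

end

end Groth.Agent.AnGerm
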